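import Cfsg.Agent.FourRankOne.Main

/-!
An involution `t` normalizing `A` with the Sylow 2-subgroups of the centralizer of `t` in `A`
cyclic of order four, and a `t`-invariant Sylow 2-subgroup `S` of `A` containing such a subgroup.
-/

set_option autoImplicit false

namespace Cfsg.Agent.CycFour

open Subgroup

variable {G : Type*} [Group G] [Finite G]

theorem tconj_mul {t : G} (tt : t * t = 1) (a b : G) :
    t * (a * b) * t = t * a * t * (t * b * t) := by
  rw [show t * a * t * (t * b * t) = t * a * (t * t) * b * t by group, tt]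
  group

theorem tconj_tconj {t : G} (tt : t * t = 1) (a : G) : t * (t * a * t) * t = a := by
  rw [show t * (t * a * t) * t = (t * t) * a * (t * t) by group, tt]
  group

theorem tconj_inv {t : G} (tt : t * t = 1) (a : G) : t * a⁻¹ * t = (t * a * t)⁻¹ := by
  rw [eq_comm, inv_eq_iff_mul_eq_one, ← tconj_mul tt, mul_inv_cancel, mul_one, tt]

theorem tconj_pow {t : G} (tt : t * t = 1) (a : G) (n : ℕ) : t * a ^ n * t = (t * a * t) ^ n := by
  induction n with
  | zero => simp [tt]
  | succ n ih => rw [pow_succ, tconj_mul tt, ih, pow_succ]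

theorem tconj_eq_iff {t : G} (tt : t * t = 1) {a : G} : t * a * t = a ↔ t * a = a * t := by
  constructor
  · intro h
    calc t * a = t * a * (t * t) := by rw [tt, mul_one]
      _ = (t * a * t) * t := by group
      _ = _ := by rw [h]
  · intro h
    rw [h, mul_assoc, tt, mul_one]

/-- The set-up of the proof: `z = r * r`. -/
structure Setup (A S : Subgroup G) (t r : G) : Prop where
  perf : ⁅A, A⁆ = A
  tt : t * t = 1
  t1 : t ≠ 1
  tA : t ∈ normalizer (A : Set G)
  r4 : orderOf r = 4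
  tr : t * r = r * t
  cmax : ∀ R : Subgroup G, R ≤ A ⊓ centralizer ({t} : Set G) → IsPGroup 2 R → Nat.card R ≤ 4
  SA : S ≤ A
  S2 : IsPGroup 2 S
  rS : r ∈ S
  tS : ∀ s ∈ S, t * s * t ∈ S
  sylow : ∀ Q : Subgroup G, Q ≤ A → IsPGroup 2 Q → Nat.card Q ≤ Nat.card S
  four : ∃ x ∈ S, x * x = 1 ∧ x ≠ 1 ∧ x ≠ r * r

variable {A S : Subgroup G} {t r : G}

set_option linter.unusedSectionVars false

theorem Setup.zz (h : Setup A S t r) : r * r * (r * r) = 1 := by
  rw [show r * r * (r * r) = r ^ 4 by simp [pow_succ, mul_assoc], ← h.r4, pow_orderOf_eq_one]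

theorem Setup.z1 (h : Setup A S t r) : r * r ≠ 1 := fun e => by
  have := orderOf_dvd_iff_pow_eq_one.2 (show r ^ 2 = 1 by rw [pow_two, e])
  rw [h.r4] at this
  norm_num at this

theorem Setup.zS (h : Setup A S t r) : r * r ∈ S := mul_mem h.rS h.rS

theorem Setup.r_fix (h : Setup A S t r) : t * r * t = r := (tconj_eq_iff h.tt).2 h.tr

theorem Setup.z_fix (h : Setup A S t r) : t * (r * r) * t = r * r := by
  rw [tconj_mul h.tt, h.r_fix]

theorem Setup.zinv (h : Setup A S t r) : (r * r)⁻¹ = r * r := inv_eq_of_mul_eq_one_right h.zz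

theorem Setup.rinv (h : Setup A S t r) : r⁻¹ = r * (r * r) :=
  inv_eq_of_mul_eq_one_right (by rw [← mul_assoc]; exact h.zz)

/-- The elements of `S` fixed by `t` are the powers of `r`. -/
theorem Setup.fixed (h : Setup A S t r) {s : G} (hs : s ∈ S) (hts : t * s * t = s) :
    s ∈ zpowers r := by
  have hts' : t * s = s * t := (tconj_eq_iff h.tt).1 hts
  have hle : zpowers r ⊔ zpowers s ≤ S :=
    sup_le (zpowers_le.2 h.rS) (zpowers_le.2 hs)
  have hlec : zpowers r ⊔ zpowers s ≤ A ⊓ centralizer ({t} : Set G) :=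
    le_inf (hle.trans h.SA) (sup_le (zpowers_le.2 (mem_centralizer_singleton_iff.2 h.tr.symm))
      (zpowers_le.2 (mem_centralizer_singleton_iff.2 hts'.symm)))
  have h4 := h.cmax _ hlec (h.S2.to_le hle)
  have heq : zpowers r = zpowers r ⊔ zpowers s :=
    eq_of_le_of_card_ge le_sup_left (by rw [Nat.card_zpowers, h.r4]; exact h4)
  rw [heq]
  exact mem_sup_right (mem_zpowers s)

theorem Setup.zpowers_cases (h : Setup A S t r) {s : G} (hs : s ∈ zpowers r) :
    s = 1 ∨ s = r ∨ s = r * r ∨ s = r * (r * r) := by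
  obtain ⟨i, rfl⟩ := mem_zpowers_iff.1 hs
  have e : r ^ i = r ^ (i % 4) := by
    rw [← zpow_mod_orderOf r i, h.r4]; rfl
  rw [e]
  rcases (show i % 4 = 0 ∨ i % 4 = 1 ∨ i % 4 = 2 ∨ i % 4 = 3 by omega) with e | e | e | e <;>
    rw [e]
  · exact Or.inl (zpow_zero r)
  · exact Or.inr (Or.inl (zpow_one r))
  · exact Or.inr (Or.inr (Or.inl (zpow_two r)))
  · exact Or.inr (Or.inr (Or.inr (by simp [zpow_ofNat, pow_succ, mul_assoc])))

theorem Setup.fixed_inv (h : Setup A S t r) {s : G} (hs : s ∈ S) (hts : t * s * t = s)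
    (hs2 : s * s = 1) : s = 1 ∨ s = r * r := by
  rcases h.zpowers_cases (h.fixed hs hts) with e | e | e | e
  · exact Or.inl e
  · exact absurd (e ▸ hs2) h.z1
  · exact Or.inr e
  · refine absurd ?_ h.z1
    rw [e, ← h.rinv, ← mul_inv_rev, inv_eq_one] at hs2
    exact hs2

/-- `z = r * r` centralizes `S`. -/
theorem Setup.zc (h : Setup A S t r) : ∀ s ∈ S, s * (r * r) = r * r * s := by
  have : Fact (Nat.Prime 2) := ⟨Nat.prime_two⟩
  have : Nontrivial S := ⟨⟨⟨r * r, h.zS⟩, 1, fun e => h.z1 (congrArg Subtype.val e)⟩⟩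
  have hnt : Nontrivial (center S) := h.S2.center_nontrivial
  have hdvd : 2 ∣ Nat.card (center S) := by
    obtain ⟨n, hn⟩ := IsPGroup.iff_card.1 (h.S2.to_subgroup (center S))
    have h1 : 1 < Nat.card (center S) := Finite.one_lt_card
    rw [hn] at h1 ⊢
    rcases n with _ | n
    · simp at h1
    · exact dvd_pow_self 2 (by omega)
  obtain ⟨⟨⟨x, hxS⟩, hxc⟩, hx⟩ := exists_prime_orderOf_dvd_card' 2 hdvd
  rw [Subgroup.orderOf_mk, Subgroup.orderOf_mk] at hx
  have hxc' : ∀ s ∈ S, s * x = x * s := fun s hs =>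
    congrArg Subtype.val (mem_center_iff.1 hxc ⟨s, hs⟩)
  have hx2 : x * x = 1 := by rw [← pow_two, ← hx, pow_orderOf_eq_one]
  have hx1 : x ≠ 1 := fun e => by rw [e, orderOf_one] at hx; omega
  have hsx : ∀ s ∈ S, s * (t * x * t) = t * x * t * s := fun s hs => by
    rw [← tconj_tconj h.tt s, ← tconj_mul h.tt, ← tconj_mul h.tt, hxc' _ (h.tS s hs)]
  have hy : ∀ s ∈ S, s * (x * (t * x * t)) = x * (t * x * t) * s := fun s hs => by
    rw [← mul_assoc, hxc' s hs, mul_assoc, hsx s hs]; simp only [mul_assoc]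
  have hfix : t * (x * (t * x * t)) * t = x * (t * x * t) := by
    rw [tconj_mul h.tt, tconj_tconj h.tt, hxc' _ (h.tS x hxS)]
  have hy2 : x * (t * x * t) * (x * (t * x * t)) = 1 := by
    rw [show x * (t * x * t) * (x * (t * x * t)) = x * ((t * x * t) * x) * (t * x * t) by group,
      hxc' _ (h.tS x hxS), show x * (x * (t * x * t)) * (t * x * t) =
        x * x * (t * x * t * (t * x * t)) by group, hx2, one_mul, ← tconj_mul h.tt, hx2, mul_one,
      h.tt]
  rcases h.fixed_inv (mul_mem hxS (h.tS x hxS)) hfix hy2 with e | e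
  · have hxx : t * x * t = x := by
      rw [← inv_eq_of_mul_eq_one_right e, inv_eq_of_mul_eq_one_right hx2]
    rcases h.fixed_inv hxS hxx hx2 with e' | e'
    · exact absurd e' hx1
    · intro s hs; rw [← e']; exact hxc' s hs
  · intro s hs; rw [← e]; exact hy s hs

theorem Setup.tnA (h : Setup A S t r) : t ∉ A := by
  intro htA
  have hle : zpowers r ⊔ zpowers t ≤ A ⊓ centralizer ({t} : Set G) :=
    sup_le (zpowers_le.2 ⟨h.SA h.rS, mem_centralizer_singleton_iff.2 h.tr.symm⟩)
      (zpowers_le.2 ⟨htA, mem_centralizer_singleton_iff.2 rfl⟩)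
  have hp : IsPGroup 2 (zpowers r ⊔ zpowers t : Subgroup G) := by
    refine IsPGroup.to_sup_of_normal_right' (IsPGroup.of_card (n := 2) (by
      rw [Nat.card_zpowers, h.r4]; rfl)) (IsPGroup.of_card (n := 1) (by
      rw [Nat.card_zpowers, orderOf_eq_prime (by rw [pow_two, h.tt]) h.t1, pow_one])) ?_
    refine zpowers_le.2 (mem_normalizer_iff.2 fun g => ?_)
    have hc : ∀ i : ℤ, r * t ^ i * r⁻¹ = t ^ i := fun i => by
      rw [← (Commute.zpow_left h.tr i).eq, mul_inv_cancel_right]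
    constructor
    · rintro ⟨i, rfl⟩; exact ⟨i, (hc i).symm⟩
    · rintro ⟨i, hi⟩
      refine ⟨i, ?_⟩
      change t ^ i = r * g * r⁻¹ at hi
      show t ^ i = g
      exact mul_left_cancel (mul_right_cancel ((hc i).trans hi))
  have h4 := h.cmax _ hle hp
  have heq : zpowers r = zpowers r ⊔ zpowers t :=
    eq_of_le_of_card_ge le_sup_left (by rw [Nat.card_zpowers, h.r4]; exact h4)
  have htr : t ∈ zpowers r := heq ▸ mem_sup_right (mem_zpowers t)
  have htS : t ∈ S := zpowers_le.2 h.rS htr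
  have htz : t = r * r :=
    (h.fixed_inv htS (by rw [mul_assoc, h.tt, mul_one]) h.tt).resolve_left h.t1
  obtain ⟨x, hx, hx2, hx1, hxz⟩ := h.four
  refine (h.fixed_inv hx ?_ hx2).elim hx1 hxz
  rw [tconj_eq_iff h.tt, htz]
  exact (h.zc x hx).symm

/-- A subgroup `S ∪ S t`. -/
theorem exists_extend {K : Subgroup G} (tt : t * t = 1) (hK : ∀ s ∈ K, t * s * t ∈ K) :
    ∃ H : Subgroup G, ∀ x, x ∈ H ↔ x ∈ K ∨ x * t ∈ K :=
  ⟨{ carrier := {x | x ∈ K ∨ x * t ∈ K}
     one_mem' := Or.inl (one_mem K)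
     mul_mem' := fun {a b} ha hb => by
      rcases ha with ha | ha <;> rcases hb with hb | hb
      · exact Or.inl (mul_mem ha hb)
      · exact Or.inr (by rw [mul_assoc]; exact mul_mem ha hb)
      · refine Or.inr ?_
        rw [show a * b * t = a * t * (t⁻¹ * b * t) by group, inv_eq_of_mul_eq_one_right tt]
        exact mul_mem ha (hK b hb)
      · refine Or.inl ?_
        have h1 := mul_mem ha (hK _ hb)
        rwa [show a * t * (t * (b * t) * t) = a * (t * t) * b * (t * t) by group, tt, mul_one,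
          mul_one] at h1
     inv_mem' := fun {a} ha => by
      rcases ha with ha | ha
      · exact Or.inl (inv_mem ha)
      · refine Or.inr ?_
        have h1 := hK _ (inv_mem ha)
        rwa [mul_inv_rev, inv_eq_of_mul_eq_one_right tt,
          show t * (t * a⁻¹) * t = (t * t) * a⁻¹ * t by group, tt, one_mul] at h1 },
    fun _ => Iff.rfl⟩

theorem isPGroup_extend {K H : Subgroup G} (hKp : IsPGroup 2 K) (tt : t * t = 1)
    (hK : ∀ s ∈ K, t * s * t ∈ K) (hH : ∀ x, x ∈ H ↔ x ∈ K ∨ x * t ∈ K) : IsPGroup 2 H := by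
  rintro ⟨x, hx⟩
  have hxx : x * x ∈ K := by
    rcases (hH x).1 hx with h | h
    · exact mul_mem h h
    · have h1 := mul_mem h (hK _ h)
      rwa [show x * t * (t * (x * t) * t) = x * (t * t) * x * (t * t) by group, tt, mul_one,
        mul_one] at h1
  obtain ⟨k, hk⟩ := hKp ⟨x * x, hxx⟩
  refine ⟨k + 1, Subtype.ext ?_⟩
  have hk' : (x * x) ^ 2 ^ k = 1 := congrArg Subtype.val hk
  rw [SubmonoidClass.coe_pow, pow_succ', pow_mul, pow_two]
  exact hk'

/-- An involution of `S` moved by `t` and by `S` only along `r * r`. -/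
structure Good (S : Subgroup G) (t r e : G) : Prop where
  eS : e ∈ S
  ee : e * e = 1
  e1 : e ≠ 1
  ez : e ≠ r * r
  te : t * e * t = e * (r * r)
  conj : ∀ s ∈ S, s * e * s⁻¹ = e ∨ s * e * s⁻¹ = e * (r * r)

end Cfsg.Agent.CycFour
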