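import Cfsg.Agent.CycFour.Moved
import Cfsg.Agent.Core.PCore
import Cfsg.Agent.S0949

/-!
`e` is not central in `S`: otherwise `S` is `Z/4 × Z/4` or `e` and `z` are not fused in `A`, and
transfer to the abelianization of `S` puts both into one cyclic group.
-/

set_option autoImplicit false
set_option linter.unusedSectionVars false

namespace Cfsg.Agent.CycFour

open Subgroup
open scoped commutatorElement

/-- A perfect group has no Sylow 2-subgroup `Z/4 × Z/4`. -/
theorem no_homocyclic_perfect {X : Type*} [Group X] [Finite X] (hperf : commutator X = ⊤)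
    (P : Sylow 2 X) (iso : (P : Subgroup X) ≃* Multiplicative (ZMod (2 ^ 2) × ZMod (2 ^ 2))) :
    False := by
  have : Fact (Nat.Prime 2) := ⟨Nat.prime_two⟩
  set O := Cfsg.pPrimeCore 2 X with hO
  have hOn : O.Normal := by
    rw [hO, Cfsg.pPrimeCore]
    exact (Core.normal_and_sSup_induction (P := fun _ => True) (Set.toFinite _) trivial
      (fun _ _ _ _ _ _ => trivial) fun H hH => ⟨hH.1, trivial⟩).1
  let π : X →* X ⧸ O := QuotientGroup.mk' O
  have hπ : Function.Surjective π := QuotientGroup.mk'_surjective O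
  set Q := P.mapSurjective hπ with hQ
  have hinj : Function.Injective (π.comp (P : Subgroup X).subtype) := by
    refine (injective_iff_map_eq_one _).2 fun x hx => ?_
    have hxO : (x : X) ∈ O := (QuotientGroup.eq_one_iff _).1 hx
    obtain ⟨k, hk⟩ := P.isPGroup' x
    have h1 : orderOf (x : X) ∣ 2 ^ k :=
      orderOf_dvd_of_pow_eq_one (congrArg Subtype.val hk)
    have h2 : orderOf (x : X) ∣ Nat.card O := Subgroup.orderOf_dvd_natCard O hxO
    have h3 := Nat.dvd_gcd h2 h1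
    rw [Nat.Coprime.gcd_eq_one (Nat.Coprime.pow_right k Core.coprime_card_pPrimeCore),
      Nat.dvd_one, orderOf_eq_one_iff] at h3
    exact Subtype.ext h3
  have hQr : (π.comp (P : Subgroup X).subtype).range = (Q : Subgroup (X ⧸ O)) := by
    rw [MonoidHom.range_comp, range_subtype]; rfl
  let iso' : (Q : Subgroup (X ⧸ O)) ≃* Multiplicative (ZMod (2 ^ 2) × ZMod (2 ^ 2)) :=
    ((MulEquiv.subgroupCongr hQr).symm.trans (MonoidHom.ofInjective hinj).symm).trans iso
  have hO' : ∀ N : Subgroup (X ⧸ O), N.Normal → Odd (Nat.card N) → N = ⊥ := fun N hN hodd =>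
    le_bot_iff.1 ((Core.le_pPrimeCore hodd.coprime_two_right).trans
      (Core.pPrimeCore_quotient_eq_bot (p := 2) (G := X)).le)
  obtain ⟨hQn, -, hidx⟩ := Cfsg.Agent.S0949.result Q 2 le_rfl iso' hO'
  have hperf' : commutator (X ⧸ O) = ⊤ := by
    rw [commutator_def, ← map_top_of_surjective π hπ, ← map_commutator, ← commutator_def, hperf]
  -- the quotient by the Sylow subgroup is commutative
  have hle : commutator (X ⧸ O) ≤ (Q : Subgroup (X ⧸ O)) := by
    rw [commutator_def, commutator_le]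
    intro a _ b _
    have hcyc : IsCyclic ((X ⧸ O) ⧸ (Q : Subgroup (X ⧸ O))) := by
      rcases hidx with e | e
      · have : Subsingleton ((X ⧸ O) ⧸ (Q : Subgroup (X ⧸ O))) :=
          (Nat.card_eq_one_iff_unique.1 (by rw [← e]; rfl)).1
        infer_instance
      · have : Fact (Nat.Prime 3) := ⟨Nat.prime_three⟩
        exact isCyclic_of_prime_card (p := 3) (by rw [← e]; rfl)
    obtain ⟨c, hc⟩ := hcyc.exists_generator
    obtain ⟨i, hi⟩ := hc (QuotientGroup.mk a)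
    obtain ⟨j, hj⟩ := hc (QuotientGroup.mk b)
    rw [← QuotientGroup.eq_one_iff, ← QuotientGroup.mk'_apply, map_commutatorElement,
      QuotientGroup.mk'_apply, QuotientGroup.mk'_apply, ← hi, ← hj, commutatorElement_eq_one_iff_commute]
    exact Commute.zpow_zpow (Commute.refl c) i j
  have htop : (Q : Subgroup (X ⧸ O)) = ⊤ := top_unique (hperf' ▸ hle)
  have hone : ∀ a : X ⧸ O, a = 1 := by
    intro a
    have ha : a ∈ commutator (X ⧸ O) := hperf' ▸ mem_top a
    have hb : commutator (X ⧸ O) = ⊥ := by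
      rw [commutator_def, commutator_eq_bot_iff_le_centralizer]
      intro x _
      refine mem_centralizer_iff.2 fun y _ => ?_
      have hx' : x ∈ (Q : Subgroup (X ⧸ O)) := htop ▸ mem_top x
      have hy' : y ∈ (Q : Subgroup (X ⧸ O)) := htop ▸ mem_top y
      exact congrArg Subtype.val (iso'.injective (by rw [map_mul, map_mul, mul_comm]) :
        (⟨y, hy'⟩ : (Q : Subgroup (X ⧸ O))) * ⟨x, hx'⟩ = ⟨x, hx'⟩ * ⟨y, hy'⟩)
    rw [hb] at ha
    exact mem_bot.1 ha
  have h1 : iso'.symm (Multiplicative.ofAdd ((1 : ZMod (2 ^ 2)), (0 : ZMod (2 ^ 2)))) =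
      iso'.symm 1 := by
    rw [map_one]; exact Subtype.ext (hone _)
  exact absurd (iso'.symm.injective h1) (by decide)

variable {G : Type*} [Group G] [Finite G] {A S E : Subgroup G} {t r e : G}

/-- Commutators, when `M` is abelian and `S = M ∪ M y`. -/
theorem commutator_mem_of_index_two {S M N : Subgroup G} (hab : ∀ u ∈ M, ∀ v ∈ M, u * v = v * u)
    {y : G} (hy : y ∈ S) (hyM : y ∉ M)
    (hout : ∀ a ∈ S, ∀ b ∈ S, a ∉ M → b ∉ M → a * b ∈ M) (hconj : ∀ u ∈ M, y * u * y⁻¹ ∈ M)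
    (hN : ∀ b ∈ M, y * b * y⁻¹ * b⁻¹ ∈ N) : ∀ p ∈ S, ∀ q ∈ S, p * q * p⁻¹ * q⁻¹ ∈ N := by
  have hrep : ∀ p ∈ S, p ∈ M ∨ ∃ a ∈ M, p = a * y := by
    intro p hp
    by_cases hpM : p ∈ M
    · exact Or.inl hpM
    · exact Or.inr ⟨p * y⁻¹, hout p hp _ (inv_mem hy) hpM fun h' => hyM (inv_mem_iff.1 h'),
        (inv_mul_cancel_right p y).symm⟩
  have hy' : ∀ b ∈ M, ∀ a ∈ M, a * (y * b * y⁻¹) * a⁻¹ = y * b * y⁻¹ := fun b hb a ha => by
    rw [hab a ha _ (hconj b hb), mul_inv_cancel_right]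
  intro p hp q hq
  rcases hrep p hp with hpM | ⟨a, ha, rfl⟩ <;> rcases hrep q hq with hqM | ⟨b, hb, rfl⟩
  · rw [hab p hpM q hqM, show q * p * p⁻¹ * q⁻¹ = 1 by group]; exact one_mem _
  · rw [show p * (b * y) * p⁻¹ * (b * y)⁻¹ = (p * b) * (y * p⁻¹ * y⁻¹) * b⁻¹ by group,
      hab p hpM b hb, show b * p * (y * p⁻¹ * y⁻¹) * b⁻¹ = b * (p * (y * p⁻¹ * y⁻¹)) * b⁻¹ by
        group,
      hab b hb _ (mul_mem hpM (hconj _ (inv_mem hpM))), mul_inv_cancel_right, ← conj_inv,
      show p * (y * p * y⁻¹)⁻¹ = (y * p * y⁻¹ * p⁻¹)⁻¹ by group]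
    exact inv_mem (hN p hpM)
  · rw [show a * y * q * (a * y)⁻¹ * q⁻¹ = a * (y * q * y⁻¹) * a⁻¹ * q⁻¹ by group, hy' q hqM a ha]
    exact hN q hqM
  · rw [show a * y * (b * y) * (a * y)⁻¹ * (b * y)⁻¹ =
        a * (y * b * y⁻¹) * (y * a⁻¹ * y⁻¹) * b⁻¹ by group, hab a ha _ (hconj b hb),
      show y * b * y⁻¹ * a * (y * a⁻¹ * y⁻¹) * b⁻¹ =
        y * b * y⁻¹ * ((a * (y * a⁻¹ * y⁻¹)) * b⁻¹) by group,
      hab _ (mul_mem ha (hconj _ (inv_mem ha))) _ (inv_mem hb), ← mul_assoc, ← conj_inv,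
      show a * (y * a * y⁻¹)⁻¹ = (y * a * y⁻¹ * a⁻¹)⁻¹ by group]
    exact mul_mem (hN b hb) (inv_mem (hN a ha))

theorem Setup.exists_sylowA (h : Setup A S t r) :
    ∃ P : Sylow 2 A, (P : Subgroup A) = S.subgroupOf A := by
  obtain ⟨P, hP⟩ := (h.S2.comap_subtype : IsPGroup 2 (S.subgroupOf A)).exists_le_sylow
  refine ⟨P, (eq_of_le_of_card_ge hP ?_).symm⟩
  refine le_of_le_of_eq ?_ (Nat.card_congr (subgroupOfEquivOfLe h.SA).toEquiv).symm
  rw [← card_map_of_injective A.subtype_injective (K := (P : Subgroup A))]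
  exact h.sylow _ (map_subtype_le _) (P.isPGroup'.map _)

/-- The normalizer of `S` in `A` centralizes `z` when `e` is central. -/
theorem Good.normalizer_fix (h : Setup A S t r) (g : Good S t r e)
    (hE : ∀ x, x ∈ E ↔ x = 1 ∨ x = r * r ∨ x = e ∨ x = e * (r * r))
    (hec : ∀ s ∈ S, s * e = e * s) {M₀ : Subgroup G} {m : G} (c : Core0 S E t r M₀ m)
    (hab : ∀ u ∈ M₀, ∀ v ∈ M₀, u * v = v * u)
    (hsq : ∀ u ∈ M₀, u * u * (u * u) = 1 → u * u = 1 ∨ u * u = r * r)
    {n : G} (hn : n ∈ A) (hnS : ∀ s ∈ S, n * s * n⁻¹ ∈ S) : n * (r * r) * n⁻¹ = r * r := by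
  by_contra hne
  have hmap : S.map (MulAut.conj n).toMonoidHom = S := eq_of_le_of_card_ge
    (by rintro _ ⟨x, hx, rfl⟩; simpa using hnS x hx)
    (by rw [card_map_of_injective (MulAut.conj n).injective])
  have hpre : ∀ s ∈ S, ∃ s' ∈ S, n * s' * n⁻¹ = s := by
    intro s hs
    rw [← hmap] at hs
    obtain ⟨x, hx, rfl⟩ := hs
    exact ⟨x, hx, rfl⟩
  have hnE : ∀ ε ∈ E, n * ε * n⁻¹ ∈ E := by
    intro ε hε
    refine g.central_mem h hE (hnS ε (g.E_le h hE hε)) (by
      rw [conj_mul, g.E_sq h hE hε, mul_one, mul_inv_cancel]) fun s hs => ?_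
    obtain ⟨s', hs', rfl⟩ := hpre s hs
    rw [conj_mul, g.comm_E h hE hs' (hec s' hs') hε, conj_mul]
  obtain ⟨x, hx⟩ : ∃ x, x = n * r * n⁻¹ := ⟨_, rfl⟩
  have hxS : x ∈ S := hx ▸ hnS r h.rS
  have hxx : x * x = n * (r * r) * n⁻¹ := by rw [hx, conj_mul]
  have hne1 : x * x ≠ 1 := fun e' => h.z1 (conj_eq_one_iff.1 (hxx.symm.trans e'))
  have hzE : r * r ∈ E := by simp [hE]
  have hxE : x * x ∈ E := hxx ▸ hnE _ hzE
  have hxM : x ∉ M₀ := fun hh => (hsq x hh (g.E_sq h hE hxE)).elim hne1 (hxx ▸ hne)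
  have hcom : ∀ a ∈ M₀, x * a * x⁻¹ * a⁻¹ ∈ E := by
    intro a ha
    obtain ⟨a', ha', rfl⟩ := hpre a (c.le ha)
    rw [hx, conj_inv, conj_inv, conj_mul, conj_mul, conj_mul]
    exact hnE _ (c.rcomm a' ha')
  have hM₀ := c.invol x hxS hxM hxE hcom
  have hEc : ∀ ε ∈ E, ∀ s ∈ S, s * ε = ε * s := fun ε hε s hs => g.comm_E h hE hs (hec s hs) hε
  obtain ⟨k, hk⟩ : ∃ k, k = x * r * x⁻¹ * r⁻¹ := ⟨_, rfl⟩
  have hkE : k ∈ E := hk ▸ hcom r c.rmem
  have hM₀t : ∀ a ∈ M₀, t * a * t ∈ M₀ := by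
    intro a ha
    rcases hM₀ a ha with e' | e'
    · exact c.Ele (g.E_tfix h hE e')
    · have h1 := mul_mem c.rmem (c.Ele (g.E_tfix h hE e'))
      rwa [tconj_mul h.tt, tconj_inv h.tt, h.r_fix, mul_inv_cancel_left] at h1
  have hkfix : t * k * t = k := by
    have htxM : t * x * t ∉ M₀ := fun hh => hxM (tconj_tconj h.tt x ▸ hM₀t _ hh)
    have ha : x⁻¹ * (t * x * t) ∈ M₀ :=
      c.out _ (inv_mem hxS) _ (h.tS x hxS) (fun hh => hxM (inv_mem_iff.1 hh)) htxM
    obtain ⟨a, hadef⟩ : ∃ a, a = x⁻¹ * (t * x * t) := ⟨_, rfl⟩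
    rw [← hadef] at ha
    have htx : t * x * t = x * a := by rw [hadef]; group
    rw [hk, tconj_mul h.tt, tconj_mul h.tt, tconj_mul h.tt, tconj_inv h.tt, tconj_inv h.tt, h.r_fix,
      htx, show x * a * r * (x * a)⁻¹ = x * (a * r) * a⁻¹ * x⁻¹ by group, hab a ha r c.rmem]
    group
  have hcomm : ∀ p ∈ S, ∀ q ∈ S, p * q * p⁻¹ * q⁻¹ ∈ zpowers k := by
    refine commutator_mem_of_index_two hab hxS hxM c.out (fun u hu => c.normal x hxS u hu) ?_
    intro b hb
    rcases hM₀ b hb with e' | e'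
    · rw [hEc b e' x hxS, show b * x * x⁻¹ * b⁻¹ = 1 by group]; exact one_mem _
    · obtain ⟨ε, hε⟩ : ∃ ε, ε = r⁻¹ * b := ⟨_, rfl⟩
      rw [← hε] at e'
      have hb' : b = r * ε := by rw [hε]; group
      have h1 : x * ε * x⁻¹ = ε := by rw [hEc ε e' x hxS, mul_inv_cancel_right]
      rw [hb', show x * (r * ε) * x⁻¹ * (r * ε)⁻¹ = (x * r * x⁻¹) * ((x * ε * x⁻¹) * ε⁻¹) * r⁻¹ by
        group, h1, mul_inv_cancel, mul_one, ← hk]
      exact mem_zpowers k
  rcases h.fixed_inv (g.E_le h hE hkE) hkfix (g.E_sq h hE hkE) with e' | e'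
  · -- `S` is abelian, of type `(4, 4)`
    rw [e'] at hk
    have hxr : x * r = r * x := mul_inv_eq_iff_eq_mul.1 (mul_inv_eq_one.1 hk.symm)
    have hx4 : x ^ 4 = 1 := by
      rw [show (4 : ℕ) = 2 * 2 from rfl, pow_mul, pow_two, pow_two]
      exact g.E_sq h hE hxE
    have hr4 : r ^ 4 = 1 := by rw [← h.r4, pow_orderOf_eq_one]
    have hmod : ∀ y : G, y ^ 4 = 1 → ∀ i j : ZMod (2 ^ 2),
        y ^ (i + j).val = y ^ i.val * y ^ j.val := fun y hy4 i j => by
      rw [ZMod.val_add, ← pow_add]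
      exact (pow_eq_pow_mod (i.val + j.val) hy4).symm
    let φ : Multiplicative (ZMod (2 ^ 2) × ZMod (2 ^ 2)) →* S :=
      MonoidHom.mk' (fun p => ⟨r ^ p.toAdd.1.val * x ^ p.toAdd.2.val,
        mul_mem (pow_mem h.rS _) (pow_mem hxS _)⟩) (fun p q => Subtype.ext (by
        have hc : Commute (r ^ q.toAdd.1.val) (x ^ p.toAdd.2.val) :=
          (Commute.pow_pow hxr.symm _ _)
        show r ^ (p.toAdd + q.toAdd).1.val * x ^ (p.toAdd + q.toAdd).2.val =
          r ^ p.toAdd.1.val * x ^ p.toAdd.2.val * (r ^ q.toAdd.1.val * x ^ q.toAdd.2.val)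
        rw [Prod.fst_add, Prod.snd_add, hmod r hr4, hmod x hx4]
        simp only [mul_assoc]
        rw [← mul_assoc (r ^ q.toAdd.1.val), hc.eq, mul_assoc]))
    have hrE : r ∉ E := fun hh => h.z1 (g.E_sq h hE hh)
    have hxE' : x ∉ E := fun hh => hxM (c.Ele hh)
    have hodd : ∀ y : G, y * y ∈ E → y ^ 4 = 1 → y ∉ E → ∀ i : ℕ, i < 4 → y ^ i ∈ E →
        y ^ i = 1 ∨ y ^ i = y * y := by
      intro y hy2 hy4 hyE i hi hiE
      interval_cases i
      · exact Or.inl (pow_zero y)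
      · exact absurd (pow_one y ▸ hiE) hyE
      · exact Or.inr (pow_two y)
      · refine absurd ?_ hyE
        rw [pow_succ, pow_two] at hiE
        exact (E.mul_mem_cancel_left hy2).1 hiE
    have hφ : Function.Injective φ := by
      refine (injective_iff_map_eq_one φ).2 fun p hp => ?_
      have hp' : r ^ p.toAdd.1.val * x ^ p.toAdd.2.val = 1 := congrArg Subtype.val hp
      have hi := ZMod.val_lt p.toAdd.1
      have hj := ZMod.val_lt p.toAdd.2
      norm_num at hi hj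
      have hxj : x ^ p.toAdd.2.val ∈ E := by
        have h1 : x ^ p.toAdd.2.val ∈ M₀ := by
          rw [eq_inv_of_mul_eq_one_right hp']
          exact inv_mem (pow_mem c.rmem _)
        generalize p.toAdd.2.val = j at hj h1 ⊢
        interval_cases j
        · rw [pow_zero]; exact one_mem E
        · exact absurd (pow_one x ▸ h1) hxM
        · rw [pow_two]; exact hxE
        · refine absurd ?_ hxM
          rw [pow_succ, pow_two] at h1
          exact (M₀.mul_mem_cancel_left (c.Ele hxE)).1 h1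
      have hri : r ^ p.toAdd.1.val ∈ E := by
        rw [eq_inv_of_mul_eq_one_left hp']; exact inv_mem hxj
      rcases hodd r hzE hr4 hrE _ hi hri with e1 | e1 <;>
        rcases hodd x hxE hx4 hxE' _ hj hxj with e2 | e2 <;> rw [e1, e2] at hp'
      · have o1 : orderOf x = 4 := orderOf_eq_prime_pow (p := 2) (n := 1)
          (by rw [pow_one, pow_two]; exact hne1) hx4
        have d1 := orderOf_dvd_of_pow_eq_one e1
        have d2 := orderOf_dvd_of_pow_eq_one e2
        rw [h.r4] at d1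
        rw [o1] at d2
        have z1 : p.toAdd.1.val = 0 := Nat.eq_zero_of_dvd_of_lt d1 hi
        have z2 : p.toAdd.2.val = 0 := Nat.eq_zero_of_dvd_of_lt d2 hj
        exact Prod.ext ((ZMod.val_eq_zero _).1 z1) ((ZMod.val_eq_zero _).1 z2)
      · exact absurd (by rw [one_mul] at hp'; exact hp') hne1
      · exact absurd (by rw [mul_one] at hp'; exact hp') h.z1
      · refine absurd ?_ hne
        rw [← hxx, ← inv_eq_of_mul_eq_one_right hp', h.zinv]
    have hsurj : Function.Surjective φ := by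
      set R := φ.range.map S.subtype with hR
      have hrR : r ∈ R := ⟨φ (Multiplicative.ofAdd (1, 0)), ⟨_, rfl⟩, by
        show r ^ (1 : ZMod (2 ^ 2)).val * x ^ (0 : ZMod (2 ^ 2)).val = r
        rw [show (1 : ZMod (2 ^ 2)).val = 1 from rfl, ZMod.val_zero, pow_one, pow_zero, mul_one]⟩
      have hxR : x ∈ R := ⟨φ (Multiplicative.ofAdd (0, 1)), ⟨_, rfl⟩, by
        show r ^ (0 : ZMod (2 ^ 2)).val * x ^ (1 : ZMod (2 ^ 2)).val = x
        rw [show (1 : ZMod (2 ^ 2)).val = 1 from rfl, ZMod.val_zero, pow_one, pow_zero, one_mul]⟩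
      have hzR : r * r ∈ R := mul_mem hrR hrR
      have hx2R : x * x ∈ R := mul_mem hxR hxR
      have heR : e ∈ R := by
        rcases (hE _).1 hxE with e1 | e1 | e1 | e1
        · exact absurd e1 hne1
        · exact absurd (hxx ▸ e1) hne
        · exact e1 ▸ hx2R
        · rw [e1] at hx2R; exact (R.mul_mem_cancel_right hzR).1 hx2R
      have hER : E ≤ R := by
        intro y hy
        rcases (hE y).1 hy with rfl | rfl | rfl | rfl
        exacts [one_mem R, hzR, heR, mul_mem heR hzR]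
      have hMR : ∀ a ∈ M₀, a ∈ R := by
        intro a ha
        rcases hM₀ a ha with e1 | e1
        · exact hER e1
        · have := mul_mem hrR (hER e1)
          rwa [mul_inv_cancel_left] at this
      intro y
      have hyR : (y : G) ∈ R := by
        by_cases hy : (y : G) ∈ M₀
        · exact hMR _ hy
        · have := mul_mem (hMR _ (c.out y y.2 _ (inv_mem hxS) hy fun hh =>
            hxM (inv_mem_iff.1 hh))) hxR
          rwa [inv_mul_cancel_right] at this
      obtain ⟨_, ⟨p, rfl⟩, hp⟩ := hyR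
      exact ⟨p, Subtype.ext hp⟩
    obtain ⟨P, hP⟩ := h.exists_sylowA
    refine no_homocyclic_perfect ?_ P ((MulEquiv.subgroupCongr hP).trans
      ((subgroupOfEquivOfLe h.SA).trans (MulEquiv.ofBijective φ ⟨hφ, hsurj⟩).symm))
    refine Subgroup.map_injective A.subtype_injective ?_
    rw [_root_.commutator_def, map_commutator, ← MonoidHom.range_eq_map, range_subtype, h.perf]
  · -- `z` is the only non-trivial commutator
    rw [e'] at hcomm
    rw [e'] at hk
    have h1 := hcomm _ (hnS x hxS) _ (hnS r h.rS)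
    rw [conj_inv, conj_inv, conj_mul, conj_mul, conj_mul, ← hk] at h1
    rcases FourRankOne.sq_eq_one_cases (mem_zpowers (r * r)) h1 h.zz h.z1
      (by rw [conj_mul, h.zz, mul_one, mul_inv_cancel]) with e1 | e1
    · exact h.z1 (conj_eq_one_iff.1 e1)
    · exact hne e1

/-- `e` is not central. -/
theorem Good.central_false (h : Setup A S t r) (g : Good S t r e)
    (hE : ∀ x, x ∈ E ↔ x = 1 ∨ x = r * r ∨ x = e ∨ x = e * (r * r))
    (hec : ∀ s ∈ S, s * e = e * s) {M₀ : Subgroup G} {m : G} (c : Core0 S E t r M₀ m) : False := by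
  have hmS : m ∈ S := c.le c.mmem
  have hEc : ∀ ε ∈ E, ∀ s ∈ S, s * ε = ε * s := fun ε hε s hs => g.comm_E h hE hs (hec s hs) hε
  have hsq0 : ∀ u ∈ M₀, u * u ∈ zpowers m := by
    intro u hu
    obtain ⟨i, ε, hε, rfl⟩ := c.gen u hu
    refine mem_zpowers_iff.2 ⟨i + i, ?_⟩
    rw [show m ^ i * ε * (m ^ i * ε) = m ^ i * (ε * m ^ i) * ε by group,
      ← hEc ε hε _ (zpow_mem hmS i), ← mul_assoc, mul_assoc (m ^ i * m ^ i), g.E_sq h hE hε,
      mul_one, zpow_add]
  have hab : ∀ u ∈ M₀, ∀ v ∈ M₀, u * v = v * u := by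
    intro u hu v hv
    obtain ⟨i, ε, hε, rfl⟩ := c.gen u hu
    obtain ⟨j, ε', hε', rfl⟩ := c.gen v hv
    have C1 : Commute (m ^ i) (m ^ j) := Commute.zpow_zpow (Commute.refl m) i j
    calc m ^ i * ε * (m ^ j * ε') = m ^ i * (ε * m ^ j) * ε' := by group
      _ = (m ^ i * m ^ j) * (ε * ε') := by rw [← hEc ε hε _ (zpow_mem hmS j)]; group
      _ = (m ^ j * m ^ i) * (ε' * ε) := by rw [C1.eq, ← hEc ε hε ε' (g.E_le h hE hε')]
      _ = m ^ j * (m ^ i * ε') * ε := by group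
      _ = m ^ j * ε' * (m ^ i * ε) := by rw [hEc ε' hε' _ (zpow_mem hmS i)]; group
  have hsq : ∀ u ∈ M₀, u * u * (u * u) = 1 → u * u = 1 ∨ u * u = r * r := fun u hu hu4 =>
    FourRankOne.sq_eq_one_cases (hsq0 r c.rmem) (hsq0 u hu) h.zz h.z1 hu4
  -- the commutators lie in a cyclic group
  obtain ⟨k, hk⟩ : ∃ k, ∀ p ∈ S, ∀ q ∈ S, p * q * p⁻¹ * q⁻¹ ∈ zpowers k := by
    by_cases hall : ∀ s ∈ S, s ∈ M₀
    · refine ⟨1, fun p hp q hq => ?_⟩
      rw [hab p (hall p hp) q (hall q hq), show q * p * p⁻¹ * q⁻¹ = 1 by group]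
      exact one_mem _
    push Not at hall
    obtain ⟨y, hy, hyM⟩ := hall
    refine ⟨y * m * y⁻¹ * m⁻¹, commutator_mem_of_index_two hab hy hyM c.out
      (fun u hu => c.normal y hy u hu) fun b hb => ?_⟩
    obtain ⟨i, ε, hε, rfl⟩ := c.gen b hb
    have hcm : Commute (y * m * y⁻¹) m⁻¹ :=
      hab _ (c.normal y hy m c.mmem) _ (inv_mem c.mmem)
    refine mem_zpowers_iff.2 ⟨i, ?_⟩
    have h1 : y * ε * y⁻¹ = ε := by rw [hEc ε hε y hy, mul_inv_cancel_right]
    rw [hcm.mul_zpow, conj_zpow, inv_zpow,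
      show y * (m ^ i * ε) * y⁻¹ * (m ^ i * ε)⁻¹ =
        (y * m ^ i * y⁻¹) * ((y * ε * y⁻¹) * ε⁻¹) * (m ^ i)⁻¹ by group,
      h1, mul_inv_cancel, mul_one]
  obtain ⟨P, hP⟩ := h.exists_sylowA
  have hmemP : ∀ s : A, s ∈ (P : Subgroup A) ↔ (s : G) ∈ S := fun s => by
    rw [hP, mem_subgroupOf]
  -- a central element fused to one of `z, e` is equal to it
  have hfus : ∀ d, (d = r * r ∨ d = e) → ∀ a ∈ A, a * d * a⁻¹ ∈ S →
      (∀ s ∈ S, s * (a * d * a⁻¹) = a * d * a⁻¹ * s) → a * d * a⁻¹ = d := by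
    intro d hd a ha had hcen
    have hdS : d ∈ S := hd.elim (fun e' => e' ▸ h.zS) fun e' => e' ▸ g.eS
    have hdc : ∀ s ∈ S, s * d = d * s := hd.elim (fun e' => e' ▸ h.zc) fun e' => e' ▸ hec
    have : Fact (Nat.Prime 2) := ⟨Nat.prime_two⟩
    obtain ⟨n, hn, hne⟩ := P.conj_eq_normalizer_conj_of_mem_centralizer ⟨d, h.SA hdS⟩
      (⟨a, ha⟩⁻¹)
      (mem_centralizer_iff.2 fun s hs => Subtype.ext (hdc s ((hmemP s).1 hs)))
      (mem_centralizer_iff.2 fun s hs => Subtype.ext (by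
        have := hcen s ((hmemP s).1 hs)
        simpa using this))
    have hne' : a * d * a⁻¹ = (n : G)⁻¹ * d * n := by
      have := congrArg Subtype.val hne
      simpa using this
    obtain ⟨b, hbA, hb, hbS⟩ : ∃ b, b ∈ A ∧ b = (n : G)⁻¹ ∧ ∀ s ∈ S, b * s * b⁻¹ ∈ S := by
      refine ⟨(n : G)⁻¹, inv_mem n.2, rfl, fun s hs => ?_⟩
      have h2 := (mem_normalizer_iff.1 (inv_mem hn) ⟨s, h.SA hs⟩).1
        ((hmemP ⟨s, h.SA hs⟩).2 hs)
      have h3 := (hmemP _).1 h2
      simpa using h3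
    rw [hne', show (n : G)⁻¹ * d * n = b * d * b⁻¹ by rw [hb, inv_inv]]
    have hbz := g.normalizer_fix h hE hec c hab hsq hbA hbS
    rcases hd with e' | e' <;> rw [e']
    · exact hbz
    -- `b` fixes `e` as an odd power of it lies in `S`
    have hbE : b * e * b⁻¹ ∈ E := g.central_mem h hE (hbS e g.eS)
      (by rw [conj_mul, g.ee, mul_one, mul_inv_cancel]) fun s hs => by
        have := hcen s hs
        rwa [hne', show (n : G)⁻¹ * d * n = b * d * b⁻¹ by rw [hb, inv_inv], e'] at this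
    rcases (hE _).1 hbE with e1 | e1 | e1 | e1
    · exact absurd (conj_eq_one_iff.1 e1) g.e1
    · exact absurd (mul_left_cancel (mul_right_cancel (e1.trans hbz.symm))) g.ez
    · exact e1
    exfalso
    -- `b` has odd index power in `S`
    set N := (normalizer ((P : Subgroup A) : Set A)) with hN
    have hPn : ((P : Subgroup A).subgroupOf N).Normal := normal_in_normalizer
    have hodd : Odd (((P : Subgroup A).subgroupOf N).index) := by
      have hdvd : ((P : Subgroup A).subgroupOf N).index ∣ (P : Subgroup A).index :=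
        relIndex_dvd_index_of_le le_normalizer
      refine Nat.not_even_iff_odd.1 fun hh => ?_
      exact P.not_dvd_index ((even_iff_two_dvd.1 hh).trans hdvd)
    have hpow : ∀ j : ℕ, b ^ j * e * (b ^ j)⁻¹ = if Even j then e else e * (r * r) := by
      intro j
      induction j with
      | zero => simp
      | succ j ih =>
        rw [pow_succ', show b * b ^ j * e * (b * b ^ j)⁻¹ = b * (b ^ j * e * (b ^ j)⁻¹) * b⁻¹ by
          group, ih]
        by_cases hj : Even j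
        · rw [if_pos hj, e1, if_neg (by rw [Nat.even_add_one]; exact not_not.2 hj)]
        · rw [if_neg hj, ← conj_mul, e1, hbz, mul_assoc, h.zz, mul_one,
            if_pos (by rw [Nat.even_add_one]; exact hj)]
    obtain ⟨j, hj⟩ : ∃ j, j = ((P : Subgroup A).subgroupOf N).index := ⟨_, rfl⟩
    have hbN : (⟨b, hbA⟩ : A) ∈ N := by
      have : (⟨b, hbA⟩ : A) = n⁻¹ := Subtype.ext hb
      rw [this]; exact inv_mem hn
    have hjS : b ^ j ∈ S := by
      have h2 := ((P : Subgroup A).subgroupOf N).pow_index_mem (⟨_, hbN⟩ : N)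
      rw [mem_subgroupOf, hP, mem_subgroupOf] at h2
      rw [hj]
      simpa [hP] using h2
    have h3 := hpow j
    rw [hec _ hjS, mul_inv_cancel_right, if_neg (Nat.not_even_iff_odd.2 (hj ▸ hodd))] at h3
    exact h.z1 (mul_eq_left.1 h3.symm)
  -- transfer
  have key : ∀ d, (d = r * r ∨ d = e) → d ∈ zpowers k ⊓ S := by
    intro d hd
    have hdS : d ∈ S := hd.elim (fun e' => e' ▸ h.zS) fun e' => e' ▸ g.eS
    have hdc : ∀ s ∈ S, s * d = d * s := hd.elim (fun e' => e' ▸ h.zc) fun e' => e' ▸ hec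
    have hdd : d * d = 1 := hd.elim (fun e' => e' ▸ h.zz) fun e' => e' ▸ g.ee
    have hcomm : ∀ p ∈ S, ∀ q ∈ S, p * q * p⁻¹ * q⁻¹ ∈ zpowers k ⊓ S := fun p hp q hq =>
      ⟨hk p hp q hq, S.mul_mem (S.mul_mem (S.mul_mem hp hq) (S.inv_mem hp)) (S.inv_mem hq)⟩
    have hall : S ⊓ centralizer ({d} : Set G) = S :=
      inf_eq_left.2 fun s hs => mem_centralizer_singleton_iff.2 (hdc s hs)
    refine (exists_transfer A S (zpowers k ⊓ S) h.SA h.S2 (fun p hp n hn => ?_) hcomm A le_rfl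
      h.perf).1 d (h.SA hdS) ⟨hdS, hdd, fun R hR hR2 => ?_, fun a ha had => ?_⟩
    · have := mul_mem (hcomm p hp n hn.2) hn
      rwa [inv_mul_cancel_right] at this
    · rw [hall]; exact h.sylow R (hR.trans inf_le_left) hR2
    · by_cases hcen : ∀ s ∈ S, s * (a * d * a⁻¹) = a * d * a⁻¹ * s
      · exact Or.inr (Or.inl ⟨1, one_mem S, by rw [hfus d hd a ha had hcen]; group⟩)
      · refine Or.inr (Or.inr fun e' => hcen ?_)
        rw [hall] at e'
        have heq : S ⊓ centralizer ({a * d * a⁻¹} : Set G) = S :=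
          eq_of_le_of_card_ge inf_le_left e'.ge
        intro s hs
        rw [← heq] at hs
        exact mem_centralizer_singleton_iff.1 hs.2
  exact g.ez (((FourRankOne.sq_eq_one_cases (key _ (Or.inl rfl)).1 (key _ (Or.inr rfl)).1 h.zz h.z1
    g.ee).resolve_left g.e1))

end Cfsg.Agent.CycFour
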