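import Mathlib

/-!
The transfer from a 2-subgroup `P` evaluated on an involution `c` of `P` whose centralizer in `P`
is a Sylow subgroup of its centralizer: it is the image of `c` when the conjugates of `c` in `P`
with as large a centralizer are conjugate to `c` in `P` or lie in the kernel.
-/

set_option autoImplicit false

namespace Cfsg.Agent.CycFour

open Subgroup MulAction
open scoped commutatorElement

theorem pow_eq_self_of_odd {D : Type*} [Monoid D] {a : D} (ha : a * a = 1) {n : ℕ} (hn : Odd n) :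
    a ^ n = a := by
  obtain ⟨k, rfl⟩ := hn
  rw [pow_succ, pow_mul, pow_two, ha, one_pow, one_mul]

theorem pow_eq_one_of_even {D : Type*} [Monoid D] {a : D} (ha : a * a = 1) {n : ℕ} (hn : Even n) :
    a ^ n = 1 := by
  obtain ⟨k, rfl⟩ := hn
  rw [← two_mul, pow_mul, pow_two, ha, one_pow]

section

variable {X : Type*} [Group X] [Finite X]

/-- The value of the transfer on an involution. -/
theorem transfer_apply_involution (P : Subgroup X) (hP : IsPGroup 2 P) {D : Type*} [CommGroup D]
    (θ : P →* D) {c : X} (hc : c ∈ P) (hc2 : c * c = 1)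
    (hmax : ∀ R : Subgroup X, R ≤ centralizer {c} → IsPGroup 2 R →
      Nat.card R ≤ Nat.card ↥(P ⊓ centralizer ({c} : Set X)))
    (hfus : ∀ g : X, ∀ h : g⁻¹ * c * g ∈ P, θ ⟨_, h⟩ = 1 ∨ (∃ p ∈ P, p⁻¹ * c * p = g⁻¹ * c * g) ∨
      Nat.card ↥(P ⊓ centralizer ({g⁻¹ * c * g} : Set X)) ≠
        Nat.card ↥(P ⊓ centralizer ({c} : Set X))) :
    MonoidHom.transfer θ c = θ ⟨c, hc⟩ := by
  classical
  let := Fintype.ofFinite (X ⧸ P)
  let := Fintype.ofFinite (Quotient (orbitRel (zpowers c) (X ⧸ P)))
  let v : X ⧸ P → D := fun q =>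
    if h : q.out⁻¹ * c * q.out ∈ P then θ ⟨_, h⟩ else 1
  have hfix : ∀ q : X ⧸ P, c • q = q ↔ q.out⁻¹ * c * q.out ∈ P := fun q => by
    conv_lhs => rw [← q.out_eq']
    rw [Quotient.smul_mk, smul_eq_mul, eq_comm, QuotientGroup.eq, mul_assoc]
  have hzfix : ∀ q : X ⧸ P, c • q = q → ∀ i : zpowers c, i • q = q := by
    rintro q hq ⟨y, hy⟩
    have : zpowers c ≤ stabilizer X q := zpowers_le.mpr hq
    exact this hy
  have hV : MonoidHom.transfer θ c = ∏ q : X ⧸ P, v q := by
    rw [MonoidHom.transfer_eq_prod_quotient_orbitRel_zpowers_quot]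
    refine Finset.prod_bij_ne_one (fun o _ _ => o.out) (fun o _ _ => Finset.mem_univ _)
      (fun o _ _ o' _ _ h => Quotient.out_injective h) (fun q _ hq => ?_) (fun o _ ho => ?_)
    · have hq' : q.out⁻¹ * c * q.out ∈ P := by
        by_contra hn
        exact hq (dif_neg hn)
      have hqf := (hfix q).mpr hq'
      set o : Quotient (orbitRel (zpowers c) (X ⧸ P)) := Quotient.mk _ q with ho
      have ho' : o.out = q := by
        obtain ⟨i, hi⟩ := (Quotient.mk_out (s := orbitRel (zpowers c) (X ⧸ P)) q :)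
        rw [← hi]
        exact hzfix q hqf i
      refine ⟨o, Finset.mem_univ _, ?_, ho'⟩
      refine ne_of_eq_of_ne ?_ hq
      simp only [v, ho', dif_pos hq']
      have hper : Function.minimalPeriod (c • ·) q = 1 :=
        Function.minimalPeriod_eq_one_iff_isFixedPt.mpr hqf
      simp only [hper, pow_one]
    · have hcase : Function.minimalPeriod (c • ·) o.out = 1 := by
        have hd : Function.minimalPeriod (c • ·) o.out ∣ 2 := by
          refine Function.IsPeriodicPt.minimalPeriod_dvd ?_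
          show (c • ·)^[2] o.out = o.out
          simp [Function.iterate_succ_apply', smul_smul, hc2]
        rcases (Nat.dvd_prime Nat.prime_two).mp hd with h | h
        · exact h
        · refine absurd ?_ ho
          simp only [h, pow_two, hc2, mul_one, inv_mul_cancel]
          exact map_one θ
      have hqf : c • o.out = o.out :=
        Function.minimalPeriod_eq_one_iff_isFixedPt.mp hcase
      simp only [v, dif_pos ((hfix _).mp hqf), hcase, pow_one]
  have hval : ∀ g : X, ∀ h : g⁻¹ * c * g ∈ P, v (g : X ⧸ P) = θ ⟨g⁻¹ * c * g, h⟩ := by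
    intro g h
    obtain ⟨k, hk⟩ := QuotientGroup.mk_out_eq_mul P g
    have h' : (g : X ⧸ P).out⁻¹ * c * (g : X ⧸ P).out ∈ P := by
      rw [hk, show (g * k)⁻¹ * c * (g * k) = (k : X)⁻¹ * (g⁻¹ * c * g) * k by group]
      exact P.mul_mem (P.mul_mem (P.inv_mem k.2) h) k.2
    simp only [v, dif_pos h']
    have : (⟨_, h'⟩ : P) = k⁻¹ * ⟨g⁻¹ * c * g, h⟩ * k := Subtype.ext (by
      show (g : X ⧸ P).out⁻¹ * c * (g : X ⧸ P).out = (k : X)⁻¹ * (g⁻¹ * c * g) * k
      rw [hk]; group)
    rw [this, map_mul, map_mul, map_inv, mul_comm (θ k)⁻¹, mul_assoc, inv_mul_cancel, mul_one]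
  have hval' : ∀ g : X, ¬ g⁻¹ * c * g ∈ P → v (g : X ⧸ P) = 1 := by
    intro g hg
    obtain ⟨k, hk⟩ := QuotientGroup.mk_out_eq_mul P g
    refine dif_neg fun hh => hg ?_
    have h2 := P.mul_mem (P.mul_mem k.2 hh) (P.inv_mem k.2)
    rwa [hk, show (k : X) * ((g * k)⁻¹ * c * (g * k)) * (k : X)⁻¹ = g⁻¹ * c * g by group] at h2
  have hvv : ∀ q, v q * v q = 1 := by
    intro q
    by_cases h : q.out⁻¹ * c * q.out ∈ P
    · simp only [v, dif_pos h]
      rw [← map_mul, ← map_one θ]
      refine congrArg θ (Subtype.ext ?_)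
      show q.out⁻¹ * c * q.out * (q.out⁻¹ * c * q.out) = 1
      rw [show q.out⁻¹ * c * q.out * (q.out⁻¹ * c * q.out) = q.out⁻¹ * (c * c) * q.out by group,
        hc2]
      group
    · simp only [v, dif_neg h, one_mul]
  set T : Subgroup X := P ⊓ centralizer ({c} : Set X) with hT
  have hTp : IsPGroup 2 T := hP.to_le inf_le_left
  have hvinv : ∀ t ∈ T, ∀ q, v (t • q) = v q := by
    intro t ht q
    obtain ⟨g, rfl⟩ := QuotientGroup.mk_surjective q
    have htc : c * t = t * c := by
      simpa using (mem_centralizer_iff.1 ht.2 c rfl)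
    have e : (t * g)⁻¹ * c * (t * g) = g⁻¹ * c * g := by
      rw [show (t * g)⁻¹ * c * (t * g) = g⁻¹ * t⁻¹ * (c * t) * g by group, htc]
      group
    by_cases h : g⁻¹ * c * g ∈ P
    · rw [hval g h, Quotient.smul_mk, smul_eq_mul]
      exact (hval (t * g) (by rw [e]; exact h)).trans (congrArg θ (Subtype.ext e))
    · rw [Quotient.smul_mk, smul_eq_mul, hval' g h]
      exact hval' _ (by rwa [e])
  -- only the fixed points of `T` count
  let π : X ⧸ P → Quotient (orbitRel T (X ⧸ P)) := fun q => Quotient.mk _ q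
  let := Fintype.ofFinite (Quotient (orbitRel T (X ⧸ P)))
  let w : X ⧸ P → D := fun q => if q ∈ fixedPoints T (X ⧸ P) then v q else 1
  have hvw : ∏ q : X ⧸ P, v q = ∏ q : X ⧸ P, w q := by
    rw [← Finset.prod_fiberwise Finset.univ π v, ← Finset.prod_fiberwise Finset.univ π w]
    refine Finset.prod_congr rfl fun ω _ => ?_
    obtain ⟨q₀, rfl⟩ := Quotient.exists_rep ω
    have hmem : ∀ q, q ∈ Finset.univ.filter (fun q => π q = Quotient.mk _ q₀) ↔ q ∈ orbit T q₀ :=
      fun q => by
        simp only [Finset.mem_filter, Finset.mem_univ, true_and, π]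
        rw [Quotient.eq, orbitRel_apply]
    by_cases hq₀ : q₀ ∈ fixedPoints T (X ⧸ P)
    · refine Finset.prod_congr rfl fun q hq => ?_
      obtain ⟨t, rfl⟩ := (hmem q).1 hq
      have e : t • q₀ = q₀ := hq₀ t
      simp only [w, e, if_pos hq₀]
    · have hcst : ∀ q ∈ Finset.univ.filter (fun q => π q = Quotient.mk _ q₀), v q = v q₀ ∧
          w q = 1 := by
        intro q hq
        obtain ⟨t, rfl⟩ := (hmem q).1 hq
        refine ⟨hvinv t t.2 q₀, if_neg fun hf => hq₀ ?_⟩
        intro s
        have h1 := hf (t⁻¹)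
        rw [inv_smul_smul] at h1
        have h2 := hf s
        rw [← h1] at h2
        exact h2
      rw [Finset.prod_congr rfl (fun q hq => (hcst q hq).1), Finset.prod_const,
        Finset.prod_congr rfl (fun q hq => (hcst q hq).2), Finset.prod_const_one]
      refine pow_eq_one_of_even (hvv q₀) ?_
      have hcard : (Finset.univ.filter (fun q => π q = Quotient.mk _ q₀)).card =
          Nat.card (orbit T q₀) := by
        rw [Nat.card_coe_set_eq, ← Set.ncard_coe_finset]
        exact congrArg Set.ncard (Set.ext hmem)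
      rw [hcard]
      have : Fact (Nat.Prime 2) := ⟨Nat.prime_two⟩
      obtain ⟨n, hn⟩ := hTp.card_orbit q₀
      rcases n with _ | n
      · refine absurd ?_ hq₀
        intro t
        rw [pow_zero, Nat.card_eq_one_iff_exists] at hn
        obtain ⟨y, hy⟩ := hn
        exact congrArg Subtype.val
          ((hy ⟨t • q₀, mem_orbit q₀ t⟩).trans (hy ⟨q₀, mem_orbit_self q₀⟩).symm)
      · exact hn ▸ (Nat.even_pow.2 ⟨even_two, by omega⟩)
  -- the contributing fixed points
  set C : Subgroup X := centralizer ({c} : Set X) ⊓ normalizer (T : Set X) with hCdef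
  have hTC : T ≤ C := le_inf inf_le_right le_normalizer
  let := Fintype.ofFinite C
  have hodd : Odd ((T.subgroupOf C).index) := by
    have : Fact (Nat.Prime 2) := ⟨Nat.prime_two⟩
    obtain ⟨Q, hQ⟩ := (hTp.comap_subtype : IsPGroup 2 (T.subgroupOf C)).exists_le_sylow
    have hle : T ≤ (Q : Subgroup C).map C.subtype := fun x hx => ⟨⟨x, hTC hx⟩, hQ hx, rfl⟩
    have heq : T = (Q : Subgroup C).map C.subtype := eq_of_le_of_card_ge hle
      (hmax _ ((map_subtype_le _).trans inf_le_left) (Q.isPGroup'.map _))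
    have e : T.subgroupOf C = Q := by
      rw [heq, subgroupOf, comap_map_eq_self_of_injective C.subtype_injective]
    rw [e]
    exact Nat.not_even_iff_odd.1 fun h => Q.not_dvd_index (even_iff_two_dvd.1 h)
  let S : Finset (X ⧸ P) := Finset.univ.image (fun k : C => ((k : X) : X ⧸ P))
  have hScard : S.card = (T.subgroupOf C).index := by
    let φ : C ⧸ T.subgroupOf C → X ⧸ P := Quotient.lift (fun k : C => ((k : X) : X ⧸ P))
      (fun a b h => by
        have h' := QuotientGroup.leftRel_apply.1 h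
        exact QuotientGroup.eq.2 (by simpa using (mem_subgroupOf.1 h').1))
    have hφ : Function.Injective φ := by
      intro a b h
      induction a using Quotient.inductionOn with
      | h a =>
        induction b using Quotient.inductionOn with
        | h b =>
          have h' : (a : X)⁻¹ * b ∈ P := QuotientGroup.eq.1 h
          exact Quotient.sound (QuotientGroup.leftRel_apply.2 (mem_subgroupOf.2
            ⟨by simpa using h', (C.mul_mem (C.inv_mem a.2) b.2).1⟩))
    let := Fintype.ofFinite (C ⧸ T.subgroupOf C)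
    rw [index, Nat.card_eq_fintype_card, ← Finset.card_univ,
      ← Finset.card_image_of_injective Finset.univ hφ]
    congr 1
    ext q
    simp only [S, Finset.mem_image, Finset.mem_univ, true_and]
    constructor
    · rintro ⟨k, rfl⟩; exact ⟨Quotient.mk _ k, rfl⟩
    · rintro ⟨k, rfl⟩
      obtain ⟨k, rfl⟩ := Quotient.exists_rep k
      exact ⟨k, rfl⟩
  have hSv : ∀ q ∈ S, w q = θ ⟨c, hc⟩ := by
    intro q hq
    obtain ⟨k, -, rfl⟩ := Finset.mem_image.1 hq
    have hkc : c * (k : X) = k * c := by simpa using (mem_centralizer_iff.1 k.2.1 c rfl)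
    have hk : ((k : X) : X ⧸ P) ∈ fixedPoints T (X ⧸ P) := by
      intro t
      show (t : X) • (((k : X) : X ⧸ P)) = ((k : X) : X ⧸ P)
      rw [Quotient.smul_mk, smul_eq_mul, eq_comm, QuotientGroup.eq]
      have h := (mem_normalizer_iff.1 (C.inv_mem k.2).2 (t : X)).1 t.2
      rw [← mul_assoc]
      simpa using h.1
    have e : (k : X)⁻¹ * c * k = c := by rw [mul_assoc, hkc]; group
    simp only [w, if_pos hk]
    rw [hval _ (by rw [e]; exact hc)]
    exact congrArg θ (Subtype.ext e)
  have hSc : ∀ q, q ∉ S → w q = 1 := by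
    intro q hq
    by_contra hw
    obtain ⟨g, rfl⟩ := QuotientGroup.mk_surjective q
    have hfx : (g : X ⧸ P) ∈ fixedPoints T (X ⧸ P) := by
      by_contra h
      exact hw (if_neg h)
    simp only [w, if_pos hfx] at hw
    have hP' : g⁻¹ * c * g ∈ P := by
      by_contra h
      exact hw (hval' g h)
    rw [hval g hP'] at hw
    have hTg : ∀ t ∈ T, g⁻¹ * t * g ∈ P := by
      intro t ht
      have h2 : t • (g : X ⧸ P) = g := hfx ⟨t, ht⟩
      rw [Quotient.smul_mk, smul_eq_mul, eq_comm, QuotientGroup.eq, ← mul_assoc] at h2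
      exact h2
    set d := g⁻¹ * c * g with hd
    set T' : Subgroup X := P ⊓ centralizer ({d} : Set X) with hT'
    have h1 : T ≤ T'.map (MulAut.conj g).toMonoidHom := by
      intro t ht
      have htc : c * t = t * c := by simpa using (mem_centralizer_iff.1 ht.2 c rfl)
      refine ⟨g⁻¹ * t * g, ⟨hTg t ht, mem_centralizer_singleton_iff.2 ?_⟩, ?_⟩
      · rw [hd]
        calc g⁻¹ * t * g * (g⁻¹ * c * g) = g⁻¹ * (t * c) * g := by group
          _ = _ := by rw [← htc]; group
      · show g * (g⁻¹ * t * g) * g⁻¹ = t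
        group
    have h2 : Nat.card T' ≤ Nat.card T := by
      rw [Nat.card_congr (equivMapOfInjective T' (MulAut.conj g).toMonoidHom (MulAut.conj g).injective).toEquiv]
      refine hmax _ ?_ ((hP.to_le inf_le_left).map _)
      rintro _ ⟨x, hx, rfl⟩
      have hxd : x * d = d * x := mem_centralizer_singleton_iff.1 hx.2
      refine mem_centralizer_singleton_iff.2 ?_
      show g * x * g⁻¹ * c = c * (g * x * g⁻¹)
      calc g * x * g⁻¹ * c = g * (x * d) * g⁻¹ := by rw [hd]; group
        _ = _ := by rw [hxd, hd]; group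
    have h3 : Nat.card T ≤ Nat.card T' := by
      rw [Nat.card_congr (equivMapOfInjective T' (MulAut.conj g).toMonoidHom (MulAut.conj g).injective).toEquiv]
      exact card_le_of_le h1
    obtain ⟨p, hp, hpc⟩ : ∃ p ∈ P, p⁻¹ * c * p = d := by
      rcases hfus g hP' with h | h | h
      · exact absurd h hw
      · exact h
      · exact absurd (le_antisymm h2 h3) h
    set k := g * p⁻¹ with hk
    have hkc : c * k = k * c := by
      have h := congrArg (fun x => g * x * p⁻¹) hpc
      rw [hd] at h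
      rw [hk]
      calc c * (g * p⁻¹) = g * (g⁻¹ * c * g) * p⁻¹ := by group
        _ = g * (p⁻¹ * c * p) * p⁻¹ := h.symm
        _ = _ := by group
    have hkT : ∀ t ∈ T, k⁻¹ * t * k ∈ T := by
      intro t ht
      have htc : c * t = t * c := by simpa using (mem_centralizer_iff.1 ht.2 c rfl)
      refine ⟨?_, mem_centralizer_singleton_iff.2 ?_⟩
      · rw [hk, show (g * p⁻¹)⁻¹ * t * (g * p⁻¹) = p * (g⁻¹ * t * g) * p⁻¹ by group]
        exact P.mul_mem (P.mul_mem hp (hTg t ht)) (P.inv_mem hp)
      · have hkc' : k⁻¹ * c = c * k⁻¹ := by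
          calc k⁻¹ * c = k⁻¹ * (c * k) * k⁻¹ := by group
            _ = _ := by rw [hkc]; group
        calc k⁻¹ * t * k * c = k⁻¹ * t * (k * c) := by group
          _ = k⁻¹ * (t * c) * k := by rw [← hkc]; group
          _ = (k⁻¹ * c) * t * k := by rw [← htc]; group
          _ = _ := by rw [hkc']; group
    have hkN : k ∈ normalizer (T : Set X) := by
      rw [← inv_inv k]
      refine inv_mem ?_
      have hmap : T.map (MulAut.conj k⁻¹).toMonoidHom = T := eq_of_le_of_card_ge
        (by rintro _ ⟨t, ht, rfl⟩; simpa using hkT t ht)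
        (by rw [card_map_of_injective (MulAut.conj k⁻¹).injective])
      rw [mem_normalizer_iff]
      intro x
      constructor
      · intro hx
        simpa using hkT x hx
      · intro hx
        rw [← hmap] at hx
        obtain ⟨y, hy, e⟩ := hx
        have : y = x := by
          have e' : k⁻¹ * y * k = k⁻¹ * x * k := by simpa using e
          exact mul_left_cancel (mul_right_cancel e')
        exact this ▸ hy
    refine hq (Finset.mem_image.2
      ⟨⟨k, mem_centralizer_singleton_iff.2 hkc.symm, hkN⟩, Finset.mem_univ _, ?_⟩)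
    exact QuotientGroup.eq.2 (by simpa [hk] using hp)
  rw [hV, hvw, ← Finset.prod_subset (Finset.subset_univ S) (fun q _ hq => hSc q hq),
    Finset.prod_congr rfl hSv, Finset.prod_const, hScard]
  exact pow_eq_self_of_odd (by rw [← map_mul, ← map_one θ]; exact congrArg θ (Subtype.ext hc2)) hodd

end

variable {G : Type*} [Group G] [Finite G]

/-- The conditions on an involution `c` of `P` under which transfer to `P / N` fixes it. -/
def TransferFix (H P N : Subgroup G) (c : G) : Prop :=
  c ∈ P ∧ c * c = 1 ∧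
    (∀ R : Subgroup G, R ≤ H ⊓ centralizer ({c} : Set G) → IsPGroup 2 R →
      Nat.card R ≤ Nat.card ↥(P ⊓ centralizer ({c} : Set G))) ∧
    ∀ h ∈ H, h * c * h⁻¹ ∈ P → h * c * h⁻¹ ∈ N ∨ (∃ p ∈ P, p * c * p⁻¹ = h * c * h⁻¹) ∨
      Nat.card ↥(P ⊓ centralizer ({h * c * h⁻¹} : Set G)) ≠
        Nat.card ↥(P ⊓ centralizer ({c} : Set G))

theorem exists_transfer (H P N : Subgroup G) (hPH : P ≤ H) (hP : IsPGroup 2 P)
    (hN : ∀ p ∈ P, ∀ n ∈ N, p * n * p⁻¹ ∈ N) (hcomm : ∀ p ∈ P, ∀ q ∈ P, p * q * p⁻¹ * q⁻¹ ∈ N)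
    (K : Subgroup G) (hKH : K ≤ H) (hK : ⁅K, K⁆ = K) :
    (∀ c ∈ K, TransferFix H P N c → c ∈ N) ∧
      ∀ c d, c * d⁻¹ ∈ K → TransferFix H P N c → TransferFix H P N d → c * d⁻¹ ∈ N := by
  classical
  set P' : Subgroup H := P.subgroupOf H with hP'
  let N' : Subgroup P' := N.comap (H.subtype.comp P'.subtype)
  have hN' : N'.Normal := ⟨fun n hn g => hN _ g.2 _ hn⟩
  have hcomm' : ∀ a b : P' ⧸ N', a * b = b * a := by
    intro a b
    induction a using QuotientGroup.induction_on with
    | H a =>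
      induction b using QuotientGroup.induction_on with
      | H b =>
        rw [← QuotientGroup.mk_mul, ← QuotientGroup.mk_mul, QuotientGroup.eq]
        show ((((a * b)⁻¹ * (b * a) : P') : H) : G) ∈ N
        have h := hcomm _ (P.inv_mem b.2) _ (P.inv_mem a.2)
        simpa [mul_assoc] using h
  let _ : CommGroup (P' ⧸ N') := { mul_comm := hcomm' }
  let θ : P' →* P' ⧸ N' := QuotientGroup.mk' N'
  have hP'p : IsPGroup 2 P' := hP.comap_subtype
  let f : H →* P' ⧸ N' := MonoidHom.transfer θ
  have hf : ∀ c (hc : TransferFix H P N c),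
      f ⟨c, hPH hc.1⟩ = θ ⟨⟨c, hPH hc.1⟩, mem_subgroupOf.2 hc.1⟩ := by
    rintro c ⟨hcP, hc2, hmax, hfus⟩
    have hmap : ∀ d : H, ((P' ⊓ centralizer ({d} : Set H)).map H.subtype) =
        P ⊓ centralizer ({(d : G)} : Set G) := by
      intro d
      ext x
      constructor
      · rintro ⟨y, hy, rfl⟩
        exact ⟨hy.1, mem_centralizer_singleton_iff.2
          (congrArg Subtype.val (mem_centralizer_singleton_iff.1 hy.2))⟩
      · intro hx
        exact ⟨⟨x, hPH hx.1⟩, ⟨hx.1, mem_centralizer_singleton_iff.2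
          (Subtype.ext (mem_centralizer_singleton_iff.1 hx.2))⟩, rfl⟩
    have hcard : ∀ d : H, Nat.card ↥(P' ⊓ centralizer ({d} : Set H)) =
        Nat.card ↥(P ⊓ centralizer ({(d : G)} : Set G)) := fun d => by
      rw [← hmap d, card_map_of_injective H.subtype_injective]
    refine transfer_apply_involution P' hP'p θ (c := ⟨c, hPH hcP⟩) _ (Subtype.ext hc2) ?_ ?_
    · intro R hR hR2
      rw [hcard, ← card_map_of_injective H.subtype_injective (K := R)]
      refine hmax _ ?_ (hR2.map _)
      rintro _ ⟨y, hy, rfl⟩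
      exact ⟨y.2, mem_centralizer_singleton_iff.2
        (congrArg Subtype.val (mem_centralizer_singleton_iff.1 (hR hy)))⟩
    · intro g hg
      have hg' : (g : G)⁻¹ * c * (g : G)⁻¹⁻¹ ∈ P := by simpa using (mem_subgroupOf.1 hg)
      rcases hfus _ (H.inv_mem g.2) hg' with h | ⟨p, hp, hpe⟩ | h
      · refine Or.inl ((QuotientGroup.eq_one_iff _).2 ?_)
        show ((g⁻¹ * ⟨c, _⟩ * g : H) : G) ∈ N
        simpa using h
      · have hpP : (⟨p, hPH hp⟩ : H)⁻¹ ∈ P' := mem_subgroupOf.2 (P.inv_mem hp)
        refine Or.inr (Or.inl ⟨_, hpP, Subtype.ext ?_⟩)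
        simpa using hpe
      · refine Or.inr (Or.inr ?_)
        rw [hcard, hcard]
        simpa using h
  have hkill : ∀ x (hx : x ∈ K), f ⟨x, hKH hx⟩ = 1 := by
    intro x hx
    have h1 : K ≤ f.ker.map H.subtype := by
      rw [← hK, commutator_le]
      intro a ha b hb
      refine ⟨⁅(⟨a, hKH ha⟩ : H), (⟨b, hKH hb⟩ : H)⁆, ?_, rfl⟩
      rw [SetLike.mem_coe, MonoidHom.mem_ker, map_commutatorElement, commutatorElement_eq_one_iff_commute]
      exact Commute.all _ _
    obtain ⟨y, hy, e⟩ := h1 hx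
    have : y = ⟨x, hKH hx⟩ := Subtype.ext e
    exact this ▸ hy
  refine ⟨fun c hc hfc => ?_, fun c d hcd hfc hfd => ?_⟩
  · have h := (hf c hfc).symm.trans (hkill c hc)
    have h' : (QuotientGroup.mk' N') _ = 1 := h
    exact (QuotientGroup.eq_one_iff (N := N') _).1 h'
  · have h := hkill _ hcd
    have e : (⟨c * d⁻¹, hKH hcd⟩ : H) = ⟨c, hPH hfc.1⟩ * ⟨d, hPH hfd.1⟩⁻¹ := Subtype.ext rfl
    rw [e, map_mul, map_inv, hf c hfc, hf d hfd, ← map_inv θ, ← map_mul θ] at h
    exact (QuotientGroup.eq_one_iff (N := N') _).1 h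

end Cfsg.Agent.CycFour
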