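import Cfsg.Agent.CycFour.Basic
import Cfsg.Agent.CycFour.Transfer

/-!
Either the Sylow subgroup `S` contains a `t`-moved involution all of whose conjugates under `S`
are `e` and `e * r * r`, or it has a cyclic invariant subgroup not containing `r`; the latter is
impossible by transfer in `A ∪ A t`.
-/

set_option autoImplicit false
set_option linter.unusedSectionVars false

namespace Cfsg.Agent.CycFour

open Subgroup

variable {G : Type*} [Group G] [Finite G] {A S : Subgroup G} {t r : G}

theorem Setup.tAmem (h : Setup A S t r) {a : G} (ha : a ∈ A) : t * a * t ∈ A := by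
  have := (mem_normalizer_iff.1 h.tA a).1 ha
  rwa [inv_eq_of_mul_eq_one_right h.tt] at this

theorem card_extend {K H : Subgroup G} (tt : t * t = 1) (htK : t ∉ K)
    (hH : ∀ x, x ∈ H ↔ x ∈ K ∨ x * t ∈ K) : Nat.card H = 2 * Nat.card K := by
  classical
  let φ : K × Bool → H := fun p => if p.2 then ⟨p.1 * t, (hH _).2 (Or.inr (by
      rw [mul_assoc, tt, mul_one]; exact p.1.2))⟩ else ⟨p.1, (hH _).2 (Or.inl p.1.2)⟩
  have hφ : Function.Bijective φ := by
    constructor
    · rintro ⟨a, b⟩ ⟨a', b'⟩ e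
      rcases b <;> rcases b' <;> simp only [φ, if_true, Bool.false_eq_true, if_false,
        Subtype.mk.injEq] at e
      · exact Prod.ext (Subtype.ext e) rfl
      · refine absurd ?_ htK
        rw [show t = (a' : G)⁻¹ * a by rw [e]; group]
        exact mul_mem (inv_mem a'.2) a.2
      · refine absurd ?_ htK
        rw [show t = (a : G)⁻¹ * a' by rw [← e]; group]
        exact mul_mem (inv_mem a.2) a'.2
      · exact Prod.ext (Subtype.ext (mul_right_cancel e)) rfl
    · rintro ⟨x, hx⟩
      rcases (hH x).1 hx with hk | hk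
      · exact ⟨⟨⟨x, hk⟩, false⟩, by simp [φ]⟩
      · exact ⟨⟨⟨x * t, hk⟩, true⟩, by simp [φ, mul_assoc, tt]⟩
  rw [← Nat.card_eq_of_bijective φ hφ, Nat.card_prod, Nat.card_eq_fintype_card (α := Bool),
    Fintype.card_bool, mul_comm]

theorem card_le_two_mul (R A : Subgroup G)
    (h : ∀ a ∈ R, ∀ b ∈ R, a ∉ A → b ∉ A → a * b ∈ A) :
    Nat.card R ≤ 2 * Nat.card ↥(R ⊓ A) := by
  classical
  by_cases hall : R ≤ A
  · rw [inf_eq_left.2 hall]; omega
  obtain ⟨a₀, ha₀, ha₀A⟩ := SetLike.not_le_iff_exists.1 hall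
  let φ : R → ↥(R ⊓ A) × Bool := fun x =>
    if hx : (x : G) ∈ A then (⟨x, x.2, hx⟩, false)
    else (⟨x * a₀, mul_mem x.2 ha₀, h x x.2 a₀ ha₀ hx ha₀A⟩, true)
  have hφ : Function.Injective φ := by
    intro x y e
    by_cases hx : (x : G) ∈ A <;> by_cases hy : (y : G) ∈ A <;>
      simp only [φ, dif_pos, dif_neg, hx, hy, not_false_iff, Prod.mk.injEq, Subtype.mk.injEq,
        Bool.false_eq_true, Bool.true_eq_false, and_false, and_true] at e
    · exact Subtype.ext (congrArg (fun v : ↥(R ⊓ A) => (v : G)) e)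
    · exact Subtype.ext (mul_right_cancel (congrArg (fun v : ↥(R ⊓ A) => (v : G)) e))
  refine (Nat.card_le_card_of_injective φ hφ).trans ?_
  rw [Nat.card_prod, Nat.card_eq_fintype_card (α := Bool), Fintype.card_bool, mul_comm]

/-- Elements outside `A` in `A ∪ A t` multiply into `A`. -/
theorem Setup.out_mul (h : Setup A S t r) {a b : G} (ha : a * t ∈ A) (hb : b * t ∈ A) :
    a * b ∈ A := by
  have h1 := mul_mem ha (h.tAmem hb)
  rwa [show a * t * (t * (b * t) * t) = a * (t * t) * b * (t * t) by group, h.tt, mul_one,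
    mul_one] at h1

/-- The 2-subgroups of `A ∪ A t` have order at most `2 |S|`. -/
theorem Setup.card_le (h : Setup A S t r) {H R : Subgroup G}
    (hH : ∀ x, x ∈ H ↔ x ∈ A ∨ x * t ∈ A) (hRH : R ≤ H) (hR : IsPGroup 2 R) :
    Nat.card R ≤ 2 * Nat.card S := by
  refine (card_le_two_mul R A fun a ha b hb haA hbA => h.out_mul
    (((hH a).1 (hRH ha)).resolve_left haA) (((hH b).1 (hRH hb)).resolve_left hbA)).trans ?_
  exact Nat.mul_le_mul_left 2 (h.sylow _ inf_le_right (hR.to_le inf_le_left))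

/-- The alternative: a moved involution, or an invariant cyclic core. -/
theorem Setup.good_or_core (h : Setup A S t r) :
    (∃ e, Good S t r e) ∨ ∃ F : Subgroup G, F ≤ S ∧ IsCyclic F ∧
      (∀ s ∈ S, ∀ f ∈ F, s * f * s⁻¹ ∈ F) ∧ (∀ f ∈ F, t * f * t ∈ F) ∧
      ∀ s ∈ S, s ∉ F → 4 ∣ Nat.card F ∧ ∀ X ∈ F, orderOf X = 4 → s * X * s⁻¹ = X⁻¹ := by
  obtain ⟨T, hT⟩ := exists_extend h.tt h.tS
  have hT2 := isPGroup_extend h.S2 h.tt h.tS hT
  have hST : S ≤ T := fun x hx => (hT x).2 (Or.inl hx)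
  have htT : t ∈ T := (hT t).2 (Or.inr (by rw [h.tt]; exact one_mem S))
  have hti := inv_eq_of_mul_eq_one_right h.tt
  have hSn : (S.subgroupOf T).Normal := ⟨fun x hx g => by
    rw [mem_subgroupOf] at hx ⊢
    push_cast
    rcases (hT g).1 g.2 with hg | hg
    · exact mul_mem (mul_mem hg hx) (inv_mem hg)
    · have := mul_mem (mul_mem hg (h.tS _ hx)) (inv_mem hg)
      rwa [mul_inv_rev, hti, show (g : G) * t * (t * (x : G) * t) * (t * (g : G)⁻¹) =
        g * (t * t) * x * (t * t) * (g : G)⁻¹ by group, h.tt, mul_one, mul_one] at this⟩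
  by_cases hno : ∀ E : Subgroup T, E ≤ S.subgroupOf T → E.Normal → IsMulCommutative E →
      (∀ e ∈ E, e ^ 2 = 1) → Nat.card E ≤ 2
  · right
    obtain ⟨F₀, hF₀S, hF₀n, hF₀c, hF₀s⟩ :=
      FourRankOne.exists_cyclic_core hT2 (S.subgroupOf T) hno
    refine ⟨F₀.map T.subtype, ?_, ?_, ?_, ?_, ?_⟩
    · rintro _ ⟨x, hx, rfl⟩; exact hF₀S hx
    · exact (equivMapOfInjective F₀ T.subtype T.subtype_injective).isCyclic.1 hF₀c
    · rintro s hs _ ⟨f, hf, rfl⟩
      exact ⟨_, hF₀n.conj_mem f hf ⟨s, hST hs⟩, rfl⟩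
    · rintro _ ⟨f, hf, rfl⟩
      refine ⟨_, hF₀n.conj_mem f hf ⟨t, htT⟩, ?_⟩
      simp [hti]
    · intro s hs hsF
      obtain ⟨h4, hinv⟩ := hF₀s ⟨s, hST hs⟩ hs (fun hh => hsF ⟨_, hh, rfl⟩)
      refine ⟨by rwa [← Nat.card_congr
        (equivMapOfInjective F₀ T.subtype T.subtype_injective).toEquiv], ?_⟩
      rintro _ ⟨X', hX', rfl⟩ hX4
      simpa using congrArg Subtype.val (hinv X' hX' (by simpa using hX4))
  left
  push Not at hno
  obtain ⟨L, hLS, hLn, hLc, hL2, hL3⟩ := hno
  obtain ⟨x, hxL, hx1, hxz⟩ : ∃ x ∈ L, x ≠ 1 ∧ (x : G) ≠ r * r := by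
    by_contra! hcon
    have hsub : (L : Set T) ⊆ {1, ⟨r * r, hST h.zS⟩} := fun a ha => by
      by_cases ha1 : a = 1
      · exact Or.inl ha1
      · exact Or.inr (Subtype.ext (hcon a ha ha1))
    have h2 := (Set.ncard_le_ncard hsub (Set.toFinite _)).trans (Set.ncard_insert_le _ _)
    rw [show (L : Set T).ncard = Nat.card L from rfl, Set.ncard_singleton] at h2
    omega
  -- a moved element of `L`
  have hmove : ∀ a ∈ L, a ≠ 1 → (a : G) ≠ r * r → t * a * t = a * (r * r) := by
    intro a ha ha1 haz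
    have ha' : ∀ b ∈ L, (a : G) * b = b * a := fun b hb =>
      congrArg (fun u : L => ((u : T) : G)) (hLc.is_comm.comm (⟨a, ha⟩ : L) ⟨b, hb⟩)
    have haa : (a : G) * a = 1 := by
      rw [← pow_two]; exact congrArg Subtype.val (hL2 a ha)
    have hta : t * (a : G) * t = ((⟨t, htT⟩ : T) * a * (⟨t, htT⟩ : T)⁻¹ : T) := by simp [hti]
    have hcomm : (a : G) * (t * a * t) = t * a * t * a := by
      rw [hta]; exact ha' _ (hLn.conj_mem a ha _)
    have hfix : t * ((a : G) * (t * a * t)) * t = a * (t * a * t) := by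
      rw [tconj_mul h.tt, tconj_tconj h.tt, ← hcomm]
    have hy2 : (a : G) * (t * a * t) * (a * (t * a * t)) = 1 := by
      rw [show (a : G) * (t * a * t) * (a * (t * a * t)) = a * (t * a * t * a) * (t * a * t) by
        group, ← hcomm, ← mul_assoc (a : G) a, haa, one_mul, ← tconj_mul h.tt, haa, mul_one, h.tt]
    have haS : (a : G) ∈ S := hLS ha
    rcases h.fixed_inv (mul_mem haS (h.tS _ haS)) hfix hy2 with e | e
    · have hxx : t * (a : G) * t = a := by
        rw [← inv_eq_of_mul_eq_one_right e, inv_eq_of_mul_eq_one_right haa]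
      rcases h.fixed_inv haS hxx haa with e' | e'
      · exact absurd (Subtype.ext e') ha1
      · exact absurd e' haz
    · rw [← e, ← mul_assoc, haa, one_mul]
  have hxS : (x : G) ∈ S := hLS hxL
  have hxx : (x : G) * x = 1 := by
    rw [← pow_two]; exact congrArg Subtype.val (hL2 x hxL)
  have hxt := hmove x hxL hx1 hxz
  refine ⟨x, hxS, hxx, fun e => hx1 (Subtype.ext e), hxz, hxt, fun s hs => ?_⟩
  have hcL : (⟨s, hST hs⟩ : T) * x * (⟨s, hST hs⟩ : T)⁻¹ ∈ L := hLn.conj_mem x hxL _
  set y : T := ⟨s, hST hs⟩ * x * (⟨s, hST hs⟩ : T)⁻¹ with hy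
  have hyv : (y : G) = s * x * s⁻¹ := by simp [hy]
  rw [← hyv]
  have hy1 : y ≠ 1 := fun e => hx1 (conj_eq_one_iff.1 (hy ▸ e))
  have hyz : (y : G) ≠ r * r := fun e => by
    refine hxz ?_
    rw [hyv] at e
    calc (x : G) = s⁻¹ * (s * x * s⁻¹) * s := by group
      _ = _ := by rw [e, mul_assoc, ← h.zc s hs]; group
  have hyt := hmove y hcL hy1 hyz
  have hmul : t * ((y : G) * x) * t = y * x := by
    rw [tconj_mul h.tt, hyt, hxt, mul_assoc (y : G) (r * r), ← mul_assoc (r * r) (x : G),
      ← h.zc _ hxS, mul_assoc (x : G) (r * r), h.zz, mul_one]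
  have hyx2 : (y : G) * x * (y * x) = 1 := by
    have := congrArg Subtype.val (hL2 _ (mul_mem hcL hxL))
    simpa [pow_two] using this
  rcases h.fixed_inv (mul_mem (hLS hcL) hxS) hmul hyx2 with e | e <;>
    simp only [coe_subtype] at e
  · left
    rw [← inv_eq_of_mul_eq_one_left e, inv_eq_of_mul_eq_one_right hxx]
  · right
    rw [h.zc _ hxS, ← e, mul_assoc, hxx, mul_one]

/-- In all cases there is a moved involution. -/
theorem Setup.exists_good (h : Setup A S t r) : ∃ e, Good S t r e := by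
  rcases h.good_or_core with hg | ⟨F, hFS, hFc, hFs, hFt, hstruct⟩
  · exact hg
  have hFp : IsPGroup 2 F := h.S2.to_le hFS
  obtain ⟨z, hz⟩ : ∃ z, z = r * r := ⟨_, rfl⟩
  have hzz : z * z = 1 := hz ▸ h.zz
  have hz1 : z ≠ 1 := hz ▸ h.z1
  have hzc : ∀ s ∈ S, s * z = z * s := hz ▸ h.zc
  obtain ⟨s, hsS, hss, hs1, hsz⟩ := h.four
  rw [← hz] at hsz
  obtain ⟨X, hXF, hX4⟩ : ∃ X ∈ F, orderOf X = 4 := by
    obtain ⟨y, hy, hyF⟩ : ∃ y ∈ S, y ∉ F := by
      by_contra! hcon
      rcases FourRankOne.sq_eq_one_cases (F := F) (hcon _ (hz ▸ h.zS)) (hcon s hsS) hzz hz1 hss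
        with e | e
      · exact hs1 e
      · exact hsz e
    obtain ⟨g, hg⟩ := hFc.exists_generator
    obtain ⟨k, hk⟩ := (hstruct y hy hyF).1
    refine ⟨(g : G) ^ k, pow_mem g.2 _, ?_⟩
    have hk0 : k ≠ 0 := by rintro rfl; exact Nat.card_pos.ne' (hk.trans (mul_zero 4))
    rw [orderOf_pow' _ hk0, Subgroup.orderOf_coe, orderOf_eq_card_of_forall_mem_zpowers hg, hk,
      Nat.gcd_eq_right (dvd_mul_left k 4), Nat.mul_div_cancel _ (Nat.pos_of_ne_zero hk0)]
  have hXX : X * X ≠ 1 := fun e => by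
    have := orderOf_dvd_iff_pow_eq_one.2 (show X ^ 2 = 1 by rw [pow_two, e])
    rw [hX4] at this
    norm_num at this
  have hX22 : X * X * (X * X) = 1 := by
    rw [show X * X * (X * X) = X ^ 4 by simp [pow_succ, mul_assoc], ← hX4, pow_orderOf_eq_one]
  have hXFS : X * X ∈ F := mul_mem hXF hXF
  have hXz : X * X = z := by
    rcases FourRankOne.sq_eq_one_cases (F := F) hXFS (hFt _ hXFS) hX22 hXX
      (by rw [← tconj_mul h.tt, hX22, mul_one, h.tt]) with e | e
    · refine absurd ?_ hXX
      rw [← tconj_tconj h.tt (X * X), e, mul_one, h.tt]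
    · exact hz ▸ (h.fixed_inv (hFS hXFS) e hX22).resolve_left hXX
  have hzF : z ∈ F := hXz ▸ hXFS
  have hXinv : X⁻¹ = X * z := inv_eq_of_mul_eq_one_right (by rw [← mul_assoc, hXz, hzz])
  have hXne : X⁻¹ ≠ X := fun e => hXX (by
    nth_rewrite 1 [← e]
    exact inv_mul_cancel X)
  have hsF : s ∉ F := fun hh =>
    (FourRankOne.sq_eq_one_cases (F := F) hzF hh hzz hz1 hss).elim hs1 hsz
  have hFin : ∀ f ∈ F, f * f = 1 → f = 1 ∨ f = z := fun f hf e =>
    FourRankOne.sq_eq_one_cases (F := F) hzF hf hzz hz1 e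
  have hF4 : ∀ f ∈ F, orderOf f = 4 → f = X ∨ f = X⁻¹ := by
    intro f hf hf4
    obtain ⟨i, hi⟩ := mem_zpowers_iff.1 (FourRankOne.mem_zpowers_of_orderOf_four (F := F) hFp hf hXF
      hf4 hXX)
    have e : f = X ^ (i % 4) := by rw [← hi, ← zpow_mod_orderOf X i, hX4]; rfl
    rcases (show i % 4 = 0 ∨ i % 4 = 1 ∨ i % 4 = 2 ∨ i % 4 = 3 by omega) with e' | e' | e' | e' <;>
      rw [e'] at e
    · rw [e, zpow_zero, orderOf_one] at hf4; omega
    · exact Or.inl (by rw [e, zpow_one])
    · exfalso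
      have := orderOf_dvd_iff_pow_eq_one.2 (show f ^ 2 = 1 by
        rw [e, pow_two, zpow_two, hX22])
      rw [hf4] at this
      norm_num at this
    · refine Or.inr ?_
      rw [e, hXinv, show (3 : ℤ) = 1 + 2 from rfl, zpow_add, zpow_one, zpow_two, hXz]
  have hout : ∀ a ∈ S, ∀ b ∈ S, a ∉ F → b ∉ F → a * b ∈ F := by
    intro a ha b hb haF hbF
    by_contra hab
    have h1 := (hstruct a ha haF).2 X hXF hX4
    have h2 := (hstruct b hb hbF).2 X hXF hX4
    have h3 := (hstruct _ (mul_mem ha hb) hab).2 X hXF hX4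
    rw [show a * b * X * (a * b)⁻¹ = a * (b * X * b⁻¹) * a⁻¹ by group, h2, ← conj_inv, h1,
      inv_inv] at h3
    exact hXne h3.symm
  have hσF : ∀ a ∈ S, a ∉ F → t * a * t ∉ F := fun a _ haF hh =>
    haF (tconj_tconj h.tt a ▸ hFt _ hh)
  have hrfix := h.r_fix
  by_cases hrF : r ∈ F
  · have hinv : ∀ f ∈ F, t * f * t = f⁻¹ → f = 1 ∨ f = z := by
      intro f hf he
      refine hFin f hf (by_contra fun hff => ?_)
      obtain ⟨i, hi⟩ := mem_zpowers_iff.1
        (FourRankOne.mem_zpowers_of_orderOf_four (F := F) hFp hrF hf h.r4 hff)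
      have e := conj_zpow (a := t) (b := f) (i := i)
      rw [inv_eq_of_mul_eq_one_right h.tt, he, inv_zpow, hi, hrfix] at e
      exact hz1 (hz ▸ mul_eq_one_iff_eq_inv.2 e.symm)
    have hσs : t * s * t = s * z := by
      have hm : s * (t * s * t) ∈ F := hout s hsS _ (h.tS s hsS) hsF (hσF s hsS hsF)
      have hi : t * (s * (t * s * t)) * t = (s * (t * s * t))⁻¹ := by
        rw [tconj_mul h.tt, tconj_tconj h.tt, mul_inv_rev, ← tconj_inv h.tt,
          inv_eq_of_mul_eq_one_right hss]
      rcases hinv _ hm hi with e | e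
      · exfalso
        have e' : t * s * t = s := by
          rw [← inv_eq_of_mul_eq_one_right e, inv_eq_of_mul_eq_one_right hss]
        exact hsF (zpowers_le.2 hrF (h.fixed hsS e'))
      · rw [← e, ← mul_assoc, hss, one_mul]
    have hFfix : ∀ f ∈ F, t * f * t = f := by
      intro f hf
      have hm : f⁻¹ * (t * f * t) ∈ F := mul_mem (inv_mem hf) (hFt f hf)
      have hi : t * (f⁻¹ * (t * f * t)) * t = (f⁻¹ * (t * f * t))⁻¹ := by
        rw [tconj_mul h.tt, tconj_tconj h.tt, tconj_inv h.tt]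
        group
      rcases hinv _ hm hi with e | e
      · exact (inv_mul_eq_one.1 e).symm
      · exfalso
        have e' : t * f * t = f * z := inv_mul_eq_iff_eq_mul.1 e
        have hfix : t * (s * f) * t = s * f := by
          rw [tconj_mul h.tt, hσs, e', mul_assoc s z, ← mul_assoc z f, ← hzc f (hFS hf),
            mul_assoc f z, hzz, mul_one]
        exact hsF ((F.mul_mem_cancel_right hf).1
          (zpowers_le.2 hrF (h.fixed (mul_mem hsS (hFS hf)) hfix)))
    have hsr : s * r * s⁻¹ = r⁻¹ := (hstruct s hsS hsF).2 r hrF h.r4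
    have hsi := inv_eq_of_mul_eq_one_right hss
    have hconjF : ∀ f ∈ F, f * s * f⁻¹ = s ∨ f * s * f⁻¹ = s * z := by
      intro f hf
      have hfr := h.fixed (hFS hf) (hFfix f hf)
      obtain ⟨i, rfl⟩ := mem_zpowers_iff.1 hfr
      have e : s * r ^ i * s⁻¹ = (r ^ i)⁻¹ := by rw [← conj_zpow, hsr, inv_zpow]
      have e1 : r ^ i * s * (r ^ i)⁻¹ = s * ((r ^ i)⁻¹ * (r ^ i)⁻¹) := by
        calc r ^ i * s * (r ^ i)⁻¹ = s * (s⁻¹ * r ^ i * s⁻¹⁻¹) * (r ^ i)⁻¹ := by group
          _ = _ := by rw [hsi, e]; group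
      rw [e1, ← mul_inv_rev, ← zpow_add, ← two_mul, zpow_mul, zpow_two, ← hz, ← inv_zpow,
        inv_eq_of_mul_eq_one_right hzz]
      rcases Int.even_or_odd' i with ⟨j, rfl | rfl⟩
      · left; rw [zpow_mul, zpow_two, hzz, one_zpow, mul_one]
      · right; rw [zpow_add, zpow_mul, zpow_two, hzz, one_zpow, one_mul, zpow_one]
    refine ⟨s, hsS, hss, hs1, hz ▸ hsz, hz ▸ hσs, fun y hy => ?_⟩
    rw [← hz]
    by_cases hyF : y ∈ F
    · exact hconjF y hyF
    have hf := hout s hsS y hy hsF hyF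
    have e : y * s * y⁻¹ = s * (s * y * s * (s * y)⁻¹) * s⁻¹ := by
      rw [mul_inv_rev, hsi]
      simp only [mul_assoc, hss, mul_one]
      rw [← mul_assoc s s, hss, one_mul]
    rcases hconjF _ hf with e' | e' <;> rw [e, e']
    · left; rw [mul_inv_cancel_right]
    · right
      rw [← conj_mul, mul_inv_cancel_right, hzc s hsS, mul_inv_cancel_right, ← hzc s hsS]
  -- `r` inverts `X`
  exfalso
  have hrS := h.rS
  have hrX : r * X * r⁻¹ = X⁻¹ := (hstruct r hrS hrF).2 X hXF hX4
  have hXS : X ∈ S := hFS hXF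
  have htX : t * X * t = X⁻¹ := by
    have hord : orderOf (t * X * t) = 4 := by
      have : t * X * t = (MulAut.conj t) X := by
        simp [inv_eq_of_mul_eq_one_right h.tt]
      rw [this, MulEquiv.orderOf_eq, hX4]
    rcases hF4 _ (hFt X hXF) hord with e | e
    · exfalso
      obtain ⟨i, hi⟩ := mem_zpowers_iff.1 (h.fixed hXS e)
      rw [← hi, ← (Commute.zpow_self r i).eq, mul_inv_cancel_right, hi] at hrX
      exact hXne hrX.symm
    · exact e
  -- `F` has order at least eight
  obtain ⟨f₀, hf₀, hf₀4⟩ : ∃ f ∈ F, f ^ 4 ≠ 1 := by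
    by_contra! hcon
    have hf4 : ∀ f ∈ F, f * f = 1 ∨ orderOf f = 4 := by
      intro f hf
      by_cases hff : f * f = 1
      · exact Or.inl hff
      · refine Or.inr ?_
        exact orderOf_eq_prime_pow (p := 2) (n := 1) (by rw [pow_one, pow_two]; exact hff)
          (hcon f hf)
    have hrf : ∀ f ∈ F, r * f * r⁻¹ = f⁻¹ := by
      intro f hf
      rcases hf4 f hf with e | e
      · rcases hFin f hf e with rfl | rfl
        · simp
        · rw [hzc r hrS, mul_inv_cancel_right, inv_eq_of_mul_eq_one_right hzz]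
      · exact (hstruct r hrS hrF).2 f hf e
    have hm : r⁻¹ * s ∈ F := hout _ (inv_mem hrS) s hsS (fun hh => hrF (inv_mem_iff.1 hh)) hsF
    refine hz1 ?_
    have e : s * s = (r * (r⁻¹ * s) * r⁻¹) * (r * r) * (r⁻¹ * s) := by group
    rw [hss, hrf _ hm, ← hz, mul_assoc, ← hzc _ (hFS hm), ← mul_assoc, inv_mul_cancel, one_mul] at e
    exact e.symm
  -- the groups
  obtain ⟨H, hH⟩ := exists_extend (K := A) h.tt fun a ha => h.tAmem ha
  obtain ⟨T, hT⟩ := exists_extend h.tt h.tS
  obtain ⟨U, hU⟩ := exists_extend (K := F) h.tt hFt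
  have hT2 := isPGroup_extend h.S2 h.tt h.tS hT
  have hTH : T ≤ H := fun x hx => (hH x).2 (((hT x).1 hx).imp (fun e => h.SA e) fun e => h.SA e)
  have hST : S ≤ T := fun x hx => (hT x).2 (Or.inl hx)
  have hUT : U ≤ T := fun x hx => (hT x).2 (((hU x).1 hx).imp (fun e => hFS e) fun e => hFS e)
  have htU : t ∈ U := (hU t).2 (Or.inr (by rw [h.tt]; exact one_mem F))
  have htT : t ∈ T := hUT htU
  have hti := inv_eq_of_mul_eq_one_right h.tt
  have hTcard : Nat.card T = 2 * Nat.card S := card_extend h.tt (fun e => h.tnA (h.SA e)) hT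
  have hS16 : 16 ≤ Nat.card S := by
    have h8 : 8 ≤ Nat.card F := by
      obtain ⟨n, hn⟩ := IsPGroup.iff_orderOf.1 hFp ⟨f₀, hf₀⟩
      rw [Subgroup.orderOf_mk] at hn
      have hn3 : 3 ≤ n := by
        by_contra hn3
        exact hf₀4 (orderOf_dvd_iff_pow_eq_one.1
          (hn ▸ (pow_dvd_pow 2 (show n ≤ 2 by omega) : 2 ^ n ∣ 2 ^ 2)))
      have h1 : orderOf f₀ ∣ Nat.card F := Subgroup.orderOf_dvd_natCard F hf₀
      have h2 := Nat.le_of_dvd Nat.card_pos h1
      have h3 : 2 ^ 3 ≤ 2 ^ n := Nat.pow_le_pow_right two_pos hn3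
      omega
    obtain ⟨q, hq⟩ := Subgroup.card_dvd_of_le hFS
    have hq2 : 2 ≤ q := by
      by_contra hq2
      have hSF : F = S := eq_of_le_of_card_ge hFS (by
        rw [hq]
        calc Nat.card F * q ≤ Nat.card F * 1 := Nat.mul_le_mul_left _ (by omega)
          _ = _ := mul_one _)
      exact hrF (hSF ▸ hrS)
    calc 16 ≤ Nat.card F * 2 := by omega
      _ ≤ Nat.card F * q := Nat.mul_le_mul_left _ hq2
      _ = _ := hq.symm
  -- elements of `T` outside `U` invert or fix `X` as follows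
  have hFX : ∀ f ∈ F, f * X = X * f := fun f hf =>
    congrArg Subtype.val (hFc.commGroup.mul_comm (⟨f, hf⟩ : F) ⟨X, hXF⟩)
  have hFz : ∀ f ∈ F, t * f * t = f → f = 1 ∨ f = z := by
    intro f hf e
    refine hFin f hf (by_contra fun hff => ?_)
    obtain ⟨i, hi⟩ := mem_zpowers_iff.1
      (FourRankOne.mem_zpowers_of_orderOf_four (F := F) hFp hXF hf hX4 hff)
    have e' := conj_zpow (a := t) (b := f) (i := i)
    rw [hti, e, hi, htX] at e'
    exact hXne e'.symm
  set u : G := t * r * X with hu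
  set w : G := r * X⁻¹ with hw
  have hwS : w ∈ S := mul_mem hrS (inv_mem hXS)
  have hwF : w ∉ F := fun hh => hrF ((F.mul_mem_cancel_right (inv_mem hXF)).1 hh)
  have huw : u = w * t := by
    calc u = (t * r * t) * (t * X * t) * t := by
          rw [hu, show t * r * t * (t * X * t) * t = t * r * (t * t) * X * (t * t) by group, h.tt,
            mul_one, mul_one]
      _ = _ := by rw [hrfix, htX]
  have huu : u * u = 1 := by
    have h1 : t * w * t = r * X := by
      rw [hw, tconj_mul h.tt, hrfix, tconj_inv h.tt, htX, inv_inv]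
    calc u * u = w * (t * w * t) := by rw [huw]; group
      _ = (r * X * r⁻¹)⁻¹ * (r * r) * X := by rw [h1, hw]; group
      _ = X * (X * X) * X := by rw [hrX, inv_inv, ← hz, hXz]
      _ = X * X * (X * X) := by group
      _ = 1 := hX22
  have huT : u ∈ T := (hT u).2 (Or.inr (by rw [huw, mul_assoc, h.tt, mul_one]; exact hwS))
  have huU : u ∉ U := by
    intro hh
    rcases (hU u).1 hh with e | e
    · refine h.tnA ?_
      rw [show t = w⁻¹ * u by rw [huw]; group]
      exact mul_mem (inv_mem (h.SA hwS)) (h.SA (hFS e))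
    · rw [huw, mul_assoc, h.tt, mul_one] at e
      exact hwF e
  have hru : r * u * r⁻¹ = u * z := by
    rw [hu, show r * (t * r * X) * r⁻¹ = (r * t) * (r * X * r⁻¹) by group, ← h.tr, hrX, hXinv,
      ← mul_assoc]
  have hui := inv_eq_of_mul_eq_one_right huu
  have hzT : ∀ g ∈ T, g * z = z * g := by
    intro g hg
    rcases (hT g).1 hg with e | e
    · exact hzc g e
    · have e2 : t * z = z * t := hz ▸ (tconj_eq_iff h.tt).1 h.z_fix
      calc g * z = g * t * (t * z) := by
            rw [← mul_assoc (g * t), mul_assoc g t t, h.tt, mul_one]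
        _ = g * t * z * t := by rw [e2, mul_assoc (g * t)]
        _ = z * (g * t) * t := by rw [hzc _ e]
        _ = z * g := by rw [mul_assoc z, mul_assoc g, h.tt, mul_one]
  -- involutions of `T` outside `U` and `A`
  have hinvo : ∀ d ∈ T, d ∉ U → d ∉ A → d * d = 1 → d = u ∨ d = u * z := by
    intro d hd hdU hdA hdd
    have hds : d * t ∈ S := ((hT d).1 hd).resolve_left fun e => hdA (h.SA e)
    have hdtF : d * t ∉ F := fun e => hdU ((hU d).2 (Or.inr e))
    obtain ⟨f, hf⟩ : ∃ f, f = u * d := ⟨_, rfl⟩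
    have hfF : f ∈ F := by
      rw [hf, huw, show w * t * d = w * (t * (d * t) * t) by
        rw [show t * (d * t) * t = t * d * (t * t) by group, h.tt, mul_one, mul_assoc]]
      exact hout w hwS _ (h.tS _ hds) hwF (hσF _ hds hdtF)
    have hdu : d = u * f := by rw [hf, ← mul_assoc, huu, one_mul]
    have huf : u * f * u⁻¹ = f⁻¹ := by
      rw [hui]
      exact eq_inv_of_mul_eq_one_left (by rw [mul_assoc (u * f), ← hdu, hdd])
    have huX : u * X * u⁻¹ = X := by
      calc u * X * u⁻¹ = w * (t * X * t) * w⁻¹ := by rw [huw, mul_inv_rev, hti]; group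
        _ = (r * X * r⁻¹)⁻¹ := by rw [htX, hw]; group
        _ = X := by rw [hrX, inv_inv]
    have hff : f * f = 1 := by
      by_contra hff
      obtain ⟨i, hi⟩ := mem_zpowers_iff.1
        (FourRankOne.mem_zpowers_of_orderOf_four (F := F) hFp hXF hfF hX4 hff)
      have e := conj_zpow (a := u) (b := f) (i := i)
      rw [huf, inv_zpow, hi, huX] at e
      exact hXne e
    rcases hFin f hfF hff with e | e
    · left; rw [hdu, e, mul_one]
    · right; rw [hdu, e]
  have hU2 : ∀ a ∈ T, ∀ b ∈ T, a * b * a⁻¹ * b⁻¹ ∈ U := by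
    have hnU : ∀ a ∈ T, a ∉ U → ∀ b ∈ T, b ∉ U → a * b ∈ U := by
      have hd : ∀ a ∈ T, a ∉ U → (a ∈ S ∧ a ∉ F) ∨ (a * t ∈ S ∧ a * t ∉ F) := fun a ha haU =>
        ((hT a).1 ha).imp (fun e => ⟨e, fun e' => haU ((hU a).2 (Or.inl e'))⟩)
          fun e => ⟨e, fun e' => haU ((hU a).2 (Or.inr e'))⟩
      intro a ha haU b hb hbU
      have hUe : ∀ c, c * t ∈ F → c ∈ U := fun c hc => (hU c).2 (Or.inr hc)
      rcases hd a ha haU with ⟨a1, a2⟩ | ⟨a1, a2⟩ <;> rcases hd b hb hbU with ⟨b1, b2⟩ | ⟨b1, b2⟩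
      · exact (hU _).2 (Or.inl (hout a a1 b b1 a2 b2))
      · exact hUe _ (by rw [mul_assoc]; exact hout a a1 _ b1 a2 b2)
      · refine hUe _ ?_
        have := hout _ a1 _ (h.tS b b1) a2 (hσF b b1 b2)
        rwa [show a * t * (t * b * t) = a * (t * t) * b * t by group, h.tt, mul_one] at this
      · refine (hU _).2 (Or.inl ?_)
        have := hout _ a1 _ (h.tS _ b1) a2 (hσF _ b1 b2)
        rwa [show a * t * (t * (b * t) * t) = a * (t * t) * b * (t * t) by group, h.tt, mul_one,
          mul_one] at this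
    have key : ∀ a ∈ T, ∀ b ∈ T, a * b ∈ U ↔ (a ∈ U ↔ b ∈ U) := by
      intro a ha b hb
      by_cases haU : a ∈ U
      · simp [haU, U.mul_mem_cancel_left haU]
      by_cases hbU : b ∈ U
      · simp [haU, hbU, U.mul_mem_cancel_right hbU]
      simp [haU, hbU, hnU a ha haU b hb hbU]
    intro a ha b hb
    rw [key _ (mul_mem (mul_mem ha hb) (inv_mem ha)) _ (inv_mem hb),
      key _ (mul_mem ha hb) _ (inv_mem ha), key a ha b hb]
    simp only [inv_mem_iff]
    tauto
  have hUn : ∀ p ∈ T, ∀ n ∈ U, p * n * p⁻¹ ∈ U := fun p hp n hn => by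
    have := mul_mem (hU2 p hp n (hUT hn)) hn
    rwa [inv_mul_cancel_right] at this
  -- centralizers
  have hCt : Nat.card ↥(T ⊓ centralizer ({t} : Set G)) ≤ 8 := by
    refine (card_le_two_mul (T ⊓ centralizer ({t} : Set G)) A fun a ha b hb haA hbA =>
      h.out_mul (((hH a).1 (hTH ha.1)).resolve_left haA)
        (((hH b).1 (hTH hb.1)).resolve_left hbA)).trans ?_
    have := h.cmax ((T ⊓ centralizer ({t} : Set G)) ⊓ A)
      (le_inf inf_le_right (inf_le_left.trans inf_le_right))
      (hT2.to_le (inf_le_left.trans inf_le_left))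
    omega
  have hCu : ∀ d, d = u ∨ d = u * z → 8 < Nat.card ↥(T ⊓ centralizer ({d} : Set G)) := by
    intro d hd
    have hdT : d ∈ T := hd.elim (fun e => e ▸ huT) fun e => e ▸ mul_mem huT (hST (hz ▸ h.zS))
    have hdA : d ∉ A := by
      have huA : u ∉ A := fun e => h.tnA (by
        rw [show t = w⁻¹ * u by rw [huw]; group]; exact mul_mem (inv_mem (h.SA hwS)) e)
      rcases hd with e | e
      · rw [e]; exact huA
      · rw [e]; exact fun e' => huA ((A.mul_mem_cancel_right (h.SA (hz ▸ h.zS))).1 e')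
    have hdd : d * d = 1 := by
      rcases hd with e | e <;> rw [e]
      · exact huu
      · rw [show u * z * (u * z) = u * (z * u) * z by group, ← hzT u huT, ← mul_assoc u u, huu,
          one_mul, hzz]
    obtain ⟨C, hC⟩ : ∃ C, C = T ⊓ centralizer ({d} : Set G) := ⟨_, rfl⟩
    rw [← hC]
    have hout2 : ∀ a ∈ T, ∀ b ∈ T, a ∉ C → b ∉ C → a * b ∈ C := by
      have hcj : ∀ a ∈ T, a ∉ C → a * d * a⁻¹ = d * z := by
        intro a ha haC
        have hdU : d ∉ U := by
          rcases hd with e | e <;> rw [e]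
          · exact huU
          · exact fun e' => huU ((U.mul_mem_cancel_right ((hU z).2 (Or.inl hzF))).1 e')
        have h1 := hinvo (a * d * a⁻¹) (mul_mem (mul_mem ha hdT) (inv_mem ha))
          (fun e => hdU (by simpa [mul_assoc] using hUn a⁻¹ (inv_mem ha) _ e))
          (fun e => hdA (by
            have hn : a⁻¹ ∈ normalizer (A : Set G) := inv_mem (by
              rcases (hT a).1 ha with e1 | e1
              · exact le_normalizer (h.SA e1)
              · have := mul_mem (le_normalizer (h.SA e1)) h.tA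
                rwa [mul_assoc, h.tt, mul_one] at this)
            have := (mem_normalizer_iff.1 hn _).1 e
            simpa [mul_assoc] using this))
          (by rw [conj_mul, hdd, mul_one, mul_inv_cancel])
        have hne : a * d * a⁻¹ ≠ d := fun e =>
          haC (hC ▸ ⟨ha, mem_centralizer_singleton_iff.2 (mul_inv_eq_iff_eq_mul.1 e)⟩)
        rcases hd with e | e <;> rcases h1 with e1 | e1 <;> rw [e] at hne e1 ⊢
        · exact absurd e1 hne
        · exact e1
        · rw [e1, mul_assoc, hzz, mul_one]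
        · exact absurd e1 hne
      intro a ha b hb haC hbC
      rw [hC]
      refine ⟨mul_mem ha hb, mem_centralizer_singleton_iff.2 (mul_inv_eq_iff_eq_mul.1 ?_)⟩
      rw [show a * b * d * (a * b)⁻¹ = a * (b * d * b⁻¹) * a⁻¹ by group, hcj b hb hbC, ← conj_mul,
        hcj a ha haC, hzT a ha, mul_inv_cancel_right, mul_assoc, hzz, mul_one]
    have h2 := card_le_two_mul T C hout2
    rw [inf_eq_right.2 (hC ▸ inf_le_left : C ≤ T), hTcard] at h2
    omega
  have hHA : ∀ g ∈ H, g ∈ normalizer (A : Set G) := by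
    intro g hg
    rcases (hH g).1 hg with e | e
    · exact le_normalizer e
    · have := mul_mem (le_normalizer e) h.tA
      rwa [mul_assoc, h.tt, mul_one] at this
  have huA : u ∉ A := fun e => h.tnA (by
    rw [show t = w⁻¹ * u by rw [huw]; group]; exact mul_mem (inv_mem (h.SA hwS)) e)
  have houtA : ∀ c ∈ T, c ∉ A → c * c = 1 → ∀ g ∈ H, g * c * g⁻¹ ∈ T →
      g * c * g⁻¹ ∈ U ∨ g * c * g⁻¹ = u ∨ g * c * g⁻¹ = u * z := by
    intro c _ hcA hcc g hg hgc
    by_cases hgU : g * c * g⁻¹ ∈ U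
    · exact Or.inl hgU
    refine Or.inr (hinvo _ hgc hgU (fun e => hcA ?_) (by rw [conj_mul, hcc, mul_one, mul_inv_cancel]))
    have := (mem_normalizer_iff.1 (inv_mem (hHA g hg)) _).1 e
    simpa [mul_assoc] using this
  have hfix_t : TransferFix H T U t := by
    refine ⟨htT, h.tt, fun R hR hR2 => ?_, fun g hg hgt => ?_⟩
    · have h1 : Nat.card R ≤ 8 := by
        refine (card_le_two_mul R A fun a ha b hb haA hbA =>
          h.out_mul (((hH a).1 (hR ha).1).resolve_left haA)
            (((hH b).1 (hR hb).1).resolve_left hbA)).trans ?_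
        have := h.cmax (R ⊓ A) (le_inf inf_le_right (inf_le_left.trans (hR.trans inf_le_right)))
          (hR2.to_le inf_le_left)
        omega
      refine h1.trans ?_
      obtain ⟨V, hV⟩ := exists_extend (K := zpowers r) h.tt fun a ha => by
        rw [(tconj_eq_iff h.tt).2 ?_]
        · exact ha
        · obtain ⟨i, rfl⟩ := mem_zpowers_iff.1 ha
          exact (Commute.zpow_right h.tr i).eq
      have hVle : V ≤ T ⊓ centralizer ({t} : Set G) := by
        intro x hx
        have hrC : zpowers r ≤ T ⊓ centralizer ({t} : Set G) :=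
          zpowers_le.2 ⟨hST hrS, mem_centralizer_singleton_iff.2 h.tr.symm⟩
        rcases (hV x).1 hx with e | e
        · exact hrC e
        · have := mul_mem (hrC e) (⟨htT, mem_centralizer_singleton_iff.2 rfl⟩ :
            t ∈ T ⊓ centralizer ({t} : Set G))
          rwa [mul_assoc, h.tt, mul_one] at this
      have hVc : Nat.card V = 8 := by
        rw [card_extend h.tt (fun e => h.tnA (h.SA (zpowers_le.2 hrS e))) hV, Nat.card_zpowers,
          h.r4]
      exact hVc ▸ card_le_of_le hVle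
    · rcases houtA t htT h.tnA h.tt g hg hgt with e | e
      · exact Or.inl e
      · have := hCu _ e
        exact Or.inr (Or.inr (by omega))
  have hfix_u : TransferFix H T U u := by
    refine ⟨huT, huu, fun R hR hR2 => ?_, fun g hg hgu => ?_⟩
    · by_contra hlt
      rw [not_le] at hlt
      have hC2 : 2 * Nat.card ↥(T ⊓ centralizer ({u} : Set G)) ≤ Nat.card R := by
        obtain ⟨a, ha⟩ := IsPGroup.iff_card.1 hR2
        obtain ⟨b, hb⟩ := IsPGroup.iff_card.1
          (hT2.to_le (inf_le_left : T ⊓ centralizer ({u} : Set G) ≤ T))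
        rw [ha, hb] at hlt ⊢
        have hlt' := (Nat.pow_lt_pow_iff_right one_lt_two).1 hlt
        calc 2 * 2 ^ b = 2 ^ (b + 1) := (pow_succ' 2 b).symm
          _ ≤ 2 ^ a := Nat.pow_le_pow_right two_pos hlt'
      have hCC : Nat.card T ≤ 2 * Nat.card ↥(T ⊓ centralizer ({u} : Set G)) := by
        have hcj : ∀ a ∈ T, a ∉ centralizer ({u} : Set G) → a * u * a⁻¹ = u * z := by
          intro a ha haC
          rcases hinvo (a * u * a⁻¹) (mul_mem (mul_mem ha huT) (inv_mem ha))
            (fun e => huU (by simpa [mul_assoc] using hUn a⁻¹ (inv_mem ha) _ e))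
            (fun e => huA (by
              have := (mem_normalizer_iff.1 (inv_mem (hHA a (hTH ha))) _).1 e
              simpa [mul_assoc] using this))
            (by rw [conj_mul, huu, mul_one, mul_inv_cancel]) with e | e
          · exact absurd (mem_centralizer_singleton_iff.2 (mul_inv_eq_iff_eq_mul.1 e)) haC
          · exact e
        refine (card_le_two_mul T (centralizer ({u} : Set G)) fun a ha b hb haC hbC => ?_)
        refine mem_centralizer_singleton_iff.2 (mul_inv_eq_iff_eq_mul.1 ?_)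
        rw [show a * b * u * (a * b)⁻¹ = a * (b * u * b⁻¹) * a⁻¹ by group, hcj b hb hbC,
          ← conj_mul, hcj a ha haC, hzT a ha, mul_inv_cancel_right, mul_assoc, hzz, mul_one]
      -- `u` would be conjugate to an involution central in `T`
      have hRT : Nat.card T ≤ Nat.card R := hCC.trans hC2
      have hRH : R ≤ H := hR.trans inf_le_left
      have hmaxR : ∀ Q : Subgroup G, Q ≤ H → IsPGroup 2 Q → Nat.card Q ≤ Nat.card T :=
        fun Q hQ hQ2 => hTcard ▸ h.card_le hH hQ hQ2
      have hRcard : Nat.card R = Nat.card T := le_antisymm (hmaxR R hRH hR2) hRT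
      have huR : u ∈ R := by
        have hzu : IsPGroup 2 (zpowers u) := hT2.to_le (zpowers_le.2 huT)
        have hnorm : zpowers u ≤ normalizer (R : Set G) := zpowers_le.2
          (mem_normalizer_iff.2 fun g => by
            have hc : ∀ v ∈ R, u * v * u⁻¹ = v := fun v hv => by
              rw [← mem_centralizer_singleton_iff.1 (hR hv).2, mul_inv_cancel_right]
            constructor
            · intro hg; rw [hc g hg]; exact hg
            · intro hg
              have := hc _ hg
              rwa [mul_left_cancel (mul_right_cancel this)] at hg)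
        have hsup : IsPGroup 2 (R ⊔ zpowers u : Subgroup G) :=
          IsPGroup.to_sup_of_normal_left' hR2 hzu hnorm
        have heq : R = R ⊔ zpowers u := eq_of_le_of_card_ge le_sup_left
          ((hmaxR _ (sup_le hRH (zpowers_le.2 (hTH huT))) hsup).trans hRT)
        rw [heq]
        exact mem_sup_right (mem_zpowers u)
      obtain ⟨g, hgH, hg⟩ := FourRankOne.exists_conj_le H T R hTH hT2 hmaxR hRH hR2
      have hmap : R.map (MulAut.conj g).toMonoidHom = T := eq_of_le_of_card_ge
        (by rintro _ ⟨x, hx, rfl⟩; simpa using hg x hx)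
        (by rw [card_map_of_injective (MulAut.conj g).injective, hRcard])
      have hcent : ∀ v ∈ T, v * (g * u * g⁻¹) = g * u * g⁻¹ * v := by
        intro v hv
        rw [← hmap] at hv
        obtain ⟨x, hx, rfl⟩ := hv
        show g * x * g⁻¹ * (g * u * g⁻¹) = g * u * g⁻¹ * (g * x * g⁻¹)
        rw [conj_mul, mem_centralizer_singleton_iff.1 (hR hx).2, conj_mul]
      have hne : u * z ≠ u := fun e => hz1 (mul_eq_left.1 e)
      rcases houtA u huT huA huu g hgH (hg u huR) with e | e | e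
      · rcases (hU _).1 e with e' | e'
        · refine huA ?_
          have := (mem_normalizer_iff.1 (inv_mem (hHA g hgH)) _).1 (h.SA (hFS e'))
          simpa [mul_assoc] using this
        · have hh := hcent X (hST hXS)
          rw [show g * u * g⁻¹ = g * u * g⁻¹ * t * t by rw [mul_assoc _ t t, h.tt, mul_one]] at hh
          obtain ⟨f, hf⟩ : ∃ f, f = g * u * g⁻¹ * t := ⟨_, rfl⟩
          rw [← hf] at e' hh
          rw [← mul_assoc, ← hFX f e', mul_assoc f X, mul_assoc f t] at hh
          refine hXne ?_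
          have hh' := mul_left_cancel hh
          rw [← htX, ← hh', mul_assoc, h.tt, mul_one]
      · refine hne ?_
        rw [← hru, ← e, hcent r (hST hrS), mul_inv_cancel_right]
      · refine hne ?_
        have hh := hcent r (hST hrS)
        rw [e] at hh
        exact mul_left_cancel (hh.trans (mul_inv_eq_iff_eq_mul.1 hru).symm)
    · rcases houtA u huT huA huu g hg hgu with e | e | e
      · exact Or.inl e
      · exact Or.inr (Or.inl ⟨1, one_mem T, by rw [e]; group⟩)
      · exact Or.inr (Or.inl ⟨r, hST hrS, by rw [hru, e]⟩)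
  have hAH : A ≤ H := fun x hx => (hH x).2 (Or.inl hx)
  have hutA : u * t⁻¹ ∈ A := by
    rw [hti, huw, mul_assoc, h.tt, mul_one]; exact h.SA hwS
  exact huU (by
    have := mul_mem ((exists_transfer H T U hTH hT2 hUn hU2 A hAH h.perf).2 u t hutA hfix_u hfix_t)
      htU
    rwa [inv_mul_cancel_right] at this)

end Cfsg.Agent.CycFour
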