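import Cfsg.Agent.CycFour.Basic

/-!
An involution `τ` acting on a normal subgroup `Q` of a 2-group with exactly two fixed points:
`Q` has an invariant cyclic subgroup `F` of index at most two, and a `τ`-invariant subgroup of `Q`
not inside `F` contains `F`.
-/

set_option autoImplicit false
set_option linter.unusedSectionVars false

namespace Cfsg.Agent.CycFour

open Subgroup

variable {P : Type*} [Group P] [Finite P]

/-- The hypotheses on `τ`. -/
structure TwoFixed (Q : Subgroup P) (τ ρ : P) : Prop where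
  pP : IsPGroup 2 P
  ττ : τ * τ = 1
  ρQ : ρ ∈ Q
  ρ1 : ρ ≠ 1
  ρρ : ρ * ρ = 1
  ρfix : τ * ρ * τ = ρ
  fix : ∀ q ∈ Q, τ * q * τ = q → q = 1 ∨ q = ρ

theorem TwoFixed.tmem {Q : Subgroup P} [hQ : Q.Normal] {τ ρ : P} (h : TwoFixed Q τ ρ) {q : P}
    (hq : q ∈ Q) : τ * q * τ ∈ Q := by
  simpa [inv_eq_of_mul_eq_one_right h.ττ] using hQ.conj_mem q hq τ

theorem TwoFixed.rho_central {Q : Subgroup P} [hQ : Q.Normal] {τ ρ : P} (h : TwoFixed Q τ ρ) :
    ∀ g : P, g * ρ = ρ * g := by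
  have : Fact (Nat.Prime 2) := ⟨Nat.prime_two⟩
  obtain ⟨Z, hZQ, hZc, hZn, hZ2⟩ := Fusion.exists_central_card_prime h.pP Q fun e =>
    h.ρ1 ((mem_bot).1 (e ▸ h.ρQ))
  have hnt : Nontrivial Z := Finite.one_lt_card_iff_nontrivial.1 (by omega)
  obtain ⟨⟨w, hw⟩, hw1⟩ := exists_ne (1 : Z)
  have hc : ∀ g : P, g * w = w * g := mem_center_iff.1 (hZc hw)
  have hfw : τ * w * τ = w := by rw [hc τ, mul_assoc, h.ττ, mul_one]
  intro g
  rw [← (h.fix w (hZQ hw) hfw).resolve_left fun e => hw1 (Subtype.ext e)]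
  exact hc g

/-- There is an invariant cyclic subgroup `F` of index at most two containing `ρ`. -/
theorem TwoFixed.exists_core {Q : Subgroup P} [hQ : Q.Normal] {τ ρ : P} (h : TwoFixed Q τ ρ) :
    ∃ F : Subgroup P, F ≤ Q ∧ F.Normal ∧ IsCyclic F ∧ ρ ∈ F ∧
      ∀ a ∈ Q, ∀ b ∈ Q, a ∉ F → b ∉ F → a * b ∈ F := by
  have hρc := h.rho_central
  by_cases hno : ∀ E : Subgroup P, E ≤ Q → E.Normal → IsMulCommutative E →
      (∀ e ∈ E, e ^ 2 = 1) → Nat.card E ≤ 2
  · obtain ⟨F, hFQ, hFn, hFc, hFs⟩ := FourRankOne.exists_cyclic_core h.pP Q hno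
    by_cases hall : ∀ q ∈ Q, q ∈ F
    · exact ⟨F, hFQ, hFn, hFc, hall ρ h.ρQ, fun a ha b _ haF _ => absurd (hall a ha) haF⟩
    push Not at hall
    obtain ⟨q, hq, hqF⟩ := hall
    obtain ⟨h4, -⟩ := hFs q hq hqF
    obtain ⟨g, hg⟩ := hFc.exists_generator
    obtain ⟨k, hk⟩ := h4
    have hg' : orderOf (g : P) = 4 * k := by
      rw [orderOf_coe, orderOf_eq_card_of_forall_mem_zpowers hg, hk]
    have hk0 : k ≠ 0 := by rintro rfl; exact Nat.card_pos.ne' (hk.trans (mul_zero 4))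
    have hX4 : orderOf ((g : P) ^ k) = 4 := by
      rw [orderOf_pow' _ hk0, hg', Nat.gcd_eq_right (dvd_mul_left k 4),
        Nat.mul_div_cancel _ (Nat.pos_of_ne_zero hk0)]
    set X := (g : P) ^ k with hX
    have hXF : X ∈ F := pow_mem g.2 k
    have hXX : X * X ≠ 1 := fun e => by
      have := orderOf_dvd_iff_pow_eq_one.2 (show X ^ 2 = 1 by rw [pow_two, e])
      rw [hX4] at this
      norm_num at this
    have hX22 : X * X * (X * X) = 1 := by
      rw [show X * X * (X * X) = X ^ 4 by simp [pow_succ, mul_assoc], ← hX4, pow_orderOf_eq_one]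
    have hτi := inv_eq_of_mul_eq_one_right h.ττ
    have hρF : ρ ∈ F := by
      have hmem : τ * (X * X) * τ ∈ F := by
        have := hFn.conj_mem _ (mul_mem hXF hXF) τ
        rwa [hτi] at this
      rcases FourRankOne.sq_eq_one_cases (F := F) (mul_mem hXF hXF) hmem hX22 hXX
        (by rw [← tconj_mul h.ττ, hX22, mul_one, h.ττ]) with e | e
      · refine absurd ?_ hXX
        rw [← tconj_tconj h.ττ (X * X), e, mul_one, h.ττ]
      · rw [← (h.fix _ (hFQ (mul_mem hXF hXF)) e).resolve_left hXX]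
        exact mul_mem hXF hXF
    refine ⟨F, hFQ, hFn, hFc, hρF, fun a ha b hb haF hbF => ?_⟩
    by_contra hab
    have h1 := (hFs a ha haF).2 X hXF hX4
    have h2 := (hFs b hb hbF).2 X hXF hX4
    have h3 := (hFs _ (mul_mem ha hb) hab).2 X hXF hX4
    apply hXX
    rw [show a * b * X * (a * b)⁻¹ = a * (b * X * b⁻¹) * a⁻¹ by group, h2, ← conj_inv, h1,
      inv_inv] at h3
    nth_rewrite 1 [h3]
    exact inv_mul_cancel X
  · push Not at hno
    obtain ⟨L, hLQ, hLn, hLc, hL2, hL3⟩ := hno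
    have hcomm : ∀ a ∈ L, ∀ b ∈ L, a * b = b * a := fun a ha b hb =>
      congrArg Subtype.val (hLc.is_comm.comm (⟨a, ha⟩ : L) ⟨b, hb⟩)
    have hLt : ∀ a ∈ L, τ * a * τ ∈ L := fun a ha => by
      simpa [inv_eq_of_mul_eq_one_right h.ττ] using hLn.conj_mem a ha τ
    obtain ⟨x, hxL, hx1, hxρ⟩ : ∃ x ∈ L, x ≠ 1 ∧ x ≠ ρ := by
      by_contra! hcon
      have hsub : (L : Set P) ⊆ {1, ρ} := fun a ha => by
        by_cases ha1 : a = 1
        · exact Or.inl ha1
        · exact Or.inr (hcon a ha ha1)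
      have h2 := (Set.ncard_le_ncard hsub (Set.toFinite _)).trans (Set.ncard_insert_le _ _)
      rw [show (L : Set P).ncard = Nat.card L from rfl, Set.ncard_singleton] at h2
      omega
    have hxx : x * x = 1 := by rw [← pow_two]; exact hL2 x hxL
    have hτx : τ * x * τ = x * ρ := by
      have hfx : τ * (x * (τ * x * τ)) * τ = x * (τ * x * τ) := by
        rw [tconj_mul h.ττ, tconj_tconj h.ττ, hcomm _ (hLt x hxL) x hxL]
      rcases h.fix _ (hLQ (mul_mem hxL (hLt x hxL))) hfx with e | e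
      · have e' : τ * x * τ = x := by
          rw [← inv_eq_of_mul_eq_one_right e, inv_eq_of_mul_eq_one_right hxx]
        rcases h.fix x (hLQ hxL) e' with e'' | e''
        · exact absurd e'' hx1
        · exact absurd e'' hxρ
      · rw [← e, ← mul_assoc, hxx, one_mul]
    have hρL : ρ ∈ L := by
      have := mul_mem hxL (hLt x hxL)
      rwa [hτx, ← mul_assoc, hxx, one_mul] at this
    have hρx : ρ * x = x * ρ := hcomm ρ hρL x hxL
    have hL4 : ∀ a ∈ L, a = 1 ∨ a = ρ ∨ a = x ∨ a = x * ρ := by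
      intro a ha
      by_cases ha1 : a = 1
      · exact Or.inl ha1
      by_cases haρ : a = ρ
      · exact Or.inr (Or.inl haρ)
      have haa : a * a = 1 := by rw [← pow_two]; exact hL2 a ha
      have hτa : τ * a * τ = a * ρ := by
        have hfx : τ * (a * (τ * a * τ)) * τ = a * (τ * a * τ) := by
          rw [tconj_mul h.ττ, tconj_tconj h.ττ, hcomm _ (hLt a ha) a ha]
        rcases h.fix _ (hLQ (mul_mem ha (hLt a ha))) hfx with e | e
        · have e' : τ * a * τ = a := by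
            rw [← inv_eq_of_mul_eq_one_right e, inv_eq_of_mul_eq_one_right haa]
          rcases h.fix a (hLQ ha) e' with e'' | e''
          · exact absurd e'' ha1
          · exact absurd e'' haρ
        · rw [← e, ← mul_assoc, haa, one_mul]
      have hf : τ * (a * x) * τ = a * x := by
        rw [tconj_mul h.ττ, hτa, hτx, mul_assoc a ρ, ← mul_assoc ρ x, hρx, mul_assoc x ρ, h.ρρ,
          mul_one]
      rcases h.fix _ (hLQ (mul_mem ha hxL)) hf with e | e
      · right; right; left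
        rw [← inv_eq_of_mul_eq_one_left e, inv_eq_of_mul_eq_one_right hxx]
      · right; right; right
        rw [← hρx, ← e, mul_assoc, hxx, mul_one]
    have hxQ := hLQ hxL
    have hconjx : ∀ g : P, g * x * g⁻¹ ∈ L := hLn.conj_mem x hxL
    let C : Subgroup P := Q ⊓ centralizer (L : Set P)
    have hLC : L ≤ C := le_inf hLQ fun a ha => mem_centralizer_iff.2 fun b hb => hcomm b hb a ha
    have hCn : C.Normal := by
      refine ⟨fun y hy g => ⟨hQ.conj_mem y hy.1 g, mem_centralizer_iff.2 fun b hb => ?_⟩⟩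
      have hb' : g⁻¹ * b * g ∈ L := by simpa using hLn.conj_mem b hb g⁻¹
      calc b * (g * y * g⁻¹) = g * ((g⁻¹ * b * g) * y) * g⁻¹ := by group
        _ = g * (y * (g⁻¹ * b * g)) * g⁻¹ := by rw [mem_centralizer_iff.1 hy.2 _ hb']
        _ = _ := by group
    have hCL : C = L := by
      by_contra hne
      obtain ⟨L₂, hL₂n, hLL₂, hL₂C, hcard, hcommL⟩ := Fusion.exists_normal_card_succ h.pP L C
        (lt_of_le_of_ne hLC (Ne.symm hne))
      obtain ⟨y, hy, hyL⟩ := SetLike.exists_of_lt (lt_of_le_of_ne hLL₂ fun e => by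
        rw [← e] at hcard
        have := Nat.card_pos (α := L)
        omega)
      have hyQ : y ∈ Q := (hL₂C hy).1
      have hε : y⁻¹ * (τ * y * τ) ∈ L := by
        have h1 : y⁻¹ * τ * y⁻¹⁻¹ * τ⁻¹ ∈ L := by
          have h0 := hcommL (commutator_mem_commutator (inv_mem hy) (mem_top τ))
          rwa [commutatorElement_def] at h0
        rwa [inv_inv, inv_eq_of_mul_eq_one_right h.ττ, show y⁻¹ * τ * y * τ = y⁻¹ * (τ * y * τ) by
          group] at h1
      obtain ⟨ε, hεeq⟩ : ∃ ε, ε = y⁻¹ * (τ * y * τ) := ⟨_, rfl⟩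
      have hty : τ * y * τ = y * ε := by rw [hεeq]; group
      have hεfix : τ * ε * τ = ε := by
        have h1 : y = y * ε * (τ * ε * τ) := by
          rw [← hty, ← tconj_mul h.ττ, ← hty, tconj_tconj h.ττ]
        have h2 : ε * (τ * ε * τ) = 1 := by
          rw [mul_assoc] at h1
          exact (mul_eq_left.1 h1.symm)
        rw [← inv_eq_of_mul_eq_one_right h2, inv_eq_of_mul_eq_one_right
          (by rw [← pow_two]; exact hL2 ε (hεeq ▸ hε) : ε * ε = 1)]
      rcases h.fix ε (hLQ (hεeq ▸ hε)) hεfix with e | e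
      · rw [e, mul_one] at hty
        rcases h.fix y hyQ hty with e' | e'
        · exact hyL (e' ▸ one_mem L)
        · exact hyL (e' ▸ hρL)
      · have hf : τ * (y * x) * τ = y * x := by
          rw [tconj_mul h.ττ, hty, hτx, e, mul_assoc y ρ, ← mul_assoc ρ x, hρx, mul_assoc x ρ,
            h.ρρ, mul_one]
        have hyx : y * x ∈ L := by
          rcases h.fix _ (mul_mem hyQ hxQ) hf with e' | e' <;> rw [e']
          · exact one_mem L
          · exact hρL
        exact hyL ((L.mul_mem_cancel_right hxL).1 hyx)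
    have hsq4 : ∀ a ∈ L, a * a = 1 := fun a ha => by rw [← pow_two]; exact hL2 a ha
    by_cases hQC : ∀ q ∈ Q, q ∈ C
    · refine ⟨zpowers ρ, zpowers_le.2 h.ρQ, ?_, inferInstance, mem_zpowers ρ,
        fun a ha b hb haF hbF => ?_⟩
      · have hmem : ∀ w ∈ zpowers ρ, w = 1 ∨ w = ρ := by
          rintro w ⟨i, rfl⟩
          show ρ ^ i = 1 ∨ ρ ^ i = ρ
          rcases Int.even_or_odd' i with ⟨j, rfl | rfl⟩
          · left; rw [zpow_mul, zpow_two, h.ρρ, one_zpow]
          · right; rw [zpow_add, zpow_mul, zpow_two, h.ρρ, one_zpow, one_mul, zpow_one]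
        refine ⟨fun w hw g => ?_⟩
        rcases hmem w hw with rfl | rfl
        · rw [mul_one, mul_inv_cancel]; exact one_mem _
        · have hg : g * w * g⁻¹ ∈ L := hLn.conj_mem _ hρL g
          have key : g * w * g⁻¹ = w := by rw [hρc g, mul_inv_cancel_right]
          rw [key]
          exact mem_zpowers _
      · have hm : ∀ c ∈ Q, c ∉ zpowers ρ → c = x ∨ c = x * ρ := fun c hc hcF => by
          rcases hL4 c (hCL ▸ hQC c hc) with rfl | rfl | rfl | rfl
          · exact absurd (one_mem _) hcF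
          · exact absurd (mem_zpowers _) hcF
          · exact Or.inl rfl
          · exact Or.inr rfl
        have e1 : x * (x * ρ) = ρ := by rw [← mul_assoc, hxx, one_mul]
        have e2 : x * ρ * x = ρ := by rw [mul_assoc, hρx, e1]
        rcases hm a ha haF with rfl | rfl <;> rcases hm b hb hbF with rfl | rfl
        · rw [hxx]; exact one_mem _
        · rw [e1]; exact mem_zpowers _
        · rw [e2]; exact mem_zpowers _
        · rw [hsq4 _ (mul_mem hxL hρL)]; exact one_mem _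
    push Not at hQC
    obtain ⟨y, hyQ, hyC⟩ := hQC
    have hρC : ρ ∈ C := hLC hρL
    -- conjugation by an element outside `C` moves `x` to `x * ρ`
    have hout : ∀ u ∈ Q, u ∉ C → u * x * u⁻¹ = x * ρ := by
      intro u hu huC
      rcases hL4 _ (hconjx u) with e | e | e | e
      · exact absurd (conj_eq_one_iff.1 e) hx1
      · refine absurd ?_ hxρ
        calc x = u⁻¹ * (u * x * u⁻¹) * u := by group
          _ = u⁻¹ * (ρ * u) := by rw [e, mul_assoc]
          _ = ρ := by rw [← hρc u]; group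
      · refine absurd ⟨hu, mem_centralizer_iff.2 fun b hb => ?_⟩ huC
        have hux : u * x = x * u := mul_inv_eq_iff_eq_mul.1 e
        rcases hL4 b hb with rfl | rfl | rfl | rfl
        · rw [one_mul, mul_one]
        · exact (hρc u).symm
        · exact hux.symm
        · rw [mul_assoc, ← hρc u, ← mul_assoc, ← hux, mul_assoc]
      · exact e
    have hidx : ∀ a ∈ Q, ∀ b ∈ Q, a ∉ C → b ∉ C → a * b ∈ C := by
      intro a ha b hb haC hbC
      by_contra hab
      have e := hout _ (mul_mem ha hb) hab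
      rw [show a * b * x * (a * b)⁻¹ = a * (b * x * b⁻¹) * a⁻¹ by group, hout b hb hbC,
        ← conj_mul, hout a ha haC, hρc a, mul_inv_cancel_right, mul_assoc, h.ρρ, mul_one] at e
      exact h.ρ1 (mul_eq_left.1 e.symm)
    -- an element of order four squaring to `ρ`
    obtain ⟨q, hqQ, hqC, hqq⟩ : ∃ q ∈ Q, q ∉ C ∧ q * q = ρ := by
      have hyy := hidx y hyQ y hyQ hyC hyC
      have hx' := hout y hyQ hyC
      rcases hL4 _ (hCL ▸ hyy) with e | e | e | e
      · refine ⟨y * x, mul_mem hyQ hxQ, fun hh => hyC ((C.mul_mem_cancel_right (hLC hxL)).1 hh), ?_⟩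
        calc y * x * (y * x) = (y * x * y⁻¹) * (y * y) * x := by group
          _ = ρ := by rw [hx', e, mul_one, mul_assoc, hρx, ← mul_assoc, hxx, one_mul]
      · exact ⟨y, hyQ, hyC, e⟩
      · exfalso
        have e' : y * (y * y) * y⁻¹ = y * y := by group
        rw [e, hx'] at e'
        exact h.ρ1 (mul_eq_left.1 e')
      · exfalso
        have e' : y * (y * y) * y⁻¹ = y * y := by group
        rw [e, ← conj_mul, hρc y, mul_inv_cancel_right, hx', mul_assoc, h.ρρ, mul_one] at e'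
        exact h.ρ1 (mul_eq_left.1 e'.symm)
    have hq2 : ∀ w ∈ zpowers q, w = 1 ∨ w = q ∨ w = ρ ∨ w = q * ρ := by
      intro w hw
      obtain ⟨i, rfl⟩ := mem_zpowers_iff.1 hw
      have h4 : q ^ (4 : ℤ) = 1 := by
        rw [show (4 : ℤ) = 2 * 2 from rfl, zpow_mul, zpow_two, zpow_two, hqq, h.ρρ]
      rw [← Int.mul_ediv_add_emod i 4, zpow_add, zpow_mul, h4, one_zpow, one_mul]
      rcases (show i % 4 = 0 ∨ i % 4 = 1 ∨ i % 4 = 2 ∨ i % 4 = 3 by omega) with e | e | e | e <;>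
        rw [e]
      · exact Or.inl (zpow_zero q)
      · exact Or.inr (Or.inl (zpow_one q))
      · exact Or.inr (Or.inr (Or.inl (by rw [zpow_two, hqq])))
      · refine Or.inr (Or.inr (Or.inr ?_))
        rw [show (3 : ℤ) = 1 + 2 from rfl, zpow_add, zpow_one, zpow_two, hqq]
    have hρF : ρ ∈ zpowers q := hqq ▸ mul_mem (mem_zpowers q) (mem_zpowers q)
    have hqx : q⁻¹ * x * q = x * ρ := by
      calc q⁻¹ * x * q = q⁻¹ * ((x * ρ) * ρ) * q := by rw [mul_assoc x ρ, h.ρρ, mul_one]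
        _ = q⁻¹ * ((q * x * q⁻¹) * ρ) * q := by rw [hout q hqQ hqC]
        _ = x * (q⁻¹ * (ρ * q)) := by group
        _ = x * ρ := by rw [← hρc q]; group
    have hcase : ∀ w ∈ Q, w ∈ zpowers q ∨ ∃ f ∈ zpowers q, w = f * x := by
      intro w hw
      by_cases hwC : w ∈ C
      · rcases hL4 w (hCL ▸ hwC) with rfl | rfl | rfl | rfl
        · exact Or.inl (one_mem _)
        · exact Or.inl hρF
        · exact Or.inr ⟨1, one_mem _, (one_mul w).symm⟩
        · exact Or.inr ⟨ρ, hρF, hρx.symm⟩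
      · have hc := hidx q⁻¹ (inv_mem hqQ) w hw (fun hh => hqC (inv_mem_iff.1 hh)) hwC
        rcases hL4 _ (hCL ▸ hc) with e | e | e | e
        · exact Or.inl (by rw [← inv_mul_eq_one.1 e]; exact mem_zpowers q)
        · exact Or.inl (by rw [show w = q * ρ from inv_mul_eq_iff_eq_mul.1 e]
                           exact mul_mem (mem_zpowers q) hρF)
        · exact Or.inr ⟨q, mem_zpowers q, inv_mul_eq_iff_eq_mul.1 e⟩
        · refine Or.inr ⟨q * ρ, mul_mem (mem_zpowers q) hρF, ?_⟩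
          rw [inv_mul_eq_iff_eq_mul.1 e, mul_assoc q ρ, hρx]
    have hxconj : ∀ f ∈ zpowers q, x * f * x⁻¹ ∈ zpowers q := by
      intro f hf
      have hxq : x * q * x⁻¹ = q * ρ := by
        calc x * q * x⁻¹ = q * (q⁻¹ * x * q) * x⁻¹ := by group
          _ = q * ρ := by rw [hqx, ← hρx]; group
      obtain ⟨i, rfl⟩ := mem_zpowers_iff.1 hf
      rw [← conj_zpow, hxq]
      exact zpow_mem (mul_mem (mem_zpowers q) hρF) i
    refine ⟨zpowers q, zpowers_le.2 hqQ, ⟨fun w hw g => ?_⟩, inferInstance, hρF, ?_⟩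
    · have hgq : g * q * g⁻¹ ∈ zpowers q := by
        rcases hcase _ (hQ.conj_mem q hqQ g) with h1 | ⟨f, hf, he⟩
        · exact h1
        · exfalso
          have hnC : g * q * g⁻¹ ∉ C := fun hh => hqC (by simpa [mul_assoc] using hCn.conj_mem _ hh g⁻¹)
          have hsq : g * q * g⁻¹ * (g * q * g⁻¹) = ρ := by
            rw [conj_mul, hqq, hρc g, mul_inv_cancel_right]
          rcases hq2 f hf with rfl | rfl | rfl | rfl
          · exact hnC (by rw [he, one_mul]; exact hLC hxL)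
          · rw [he, show f * x * (f * x) = f * f * ((f⁻¹ * x * f) * x) by group, hqx, hqq,
              mul_assoc x ρ, hρx, ← mul_assoc x x, hxx, one_mul, h.ρρ] at hsq
            exact h.ρ1 hsq.symm
          · exact hnC (by rw [he]; exact mul_mem hρC (hLC hxL))
          · have h1 : q * ρ * (q * ρ) = ρ := by
              rw [show q * ρ * (q * ρ) = q * (ρ * q) * ρ by group, ← hρc q, ← mul_assoc q q, hqq,
                h.ρρ, one_mul]
            have h2 : (q * ρ)⁻¹ * x * (q * ρ) = x * ρ := by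
              rw [show (q * ρ)⁻¹ * x * (q * ρ) = ρ⁻¹ * (q⁻¹ * x * q) * ρ by group, hqx, ← hρx,
                inv_mul_cancel_left, hρx]
            rw [he, show q * ρ * x * (q * ρ * x) =
              q * ρ * (q * ρ) * (((q * ρ)⁻¹ * x * (q * ρ)) * x) by group, h1, h2,
              mul_assoc x ρ, hρx, ← mul_assoc x x, hxx, one_mul, h.ρρ] at hsq
            exact h.ρ1 hsq.symm
      obtain ⟨i, rfl⟩ := mem_zpowers_iff.1 hw
      rw [← conj_zpow]
      exact zpow_mem hgq i
    · intro a ha b hb haF hbF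
      obtain ⟨f, hf, rfl⟩ := (hcase a ha).resolve_left haF
      obtain ⟨f', hf', rfl⟩ := (hcase b hb).resolve_left hbF
      rw [show f * x * (f' * x) = f * (x * f' * x⁻¹) * (x * x) by group, hxx, mul_one]
      exact mul_mem hf (hxconj f' hf')

/-- An element of `Q` outside `F` yields a generator of `F`. -/
theorem TwoFixed.gen_mem {Q : Subgroup P} [hQ : Q.Normal] {τ ρ : P} (h : TwoFixed Q τ ρ)
    {F : Subgroup P} (hFQ : F ≤ Q) (hFn : F.Normal) (hFc : IsCyclic F) (hρF : ρ ∈ F)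
    (hout : ∀ a ∈ Q, ∀ b ∈ Q, a ∉ F → b ∉ F → a * b ∈ F) {y : P} (hyQ : y ∈ Q) (hyF : y ∉ F) :
    y⁻¹ * (τ * y * τ) ∈ F ∧ ∀ w ∈ F, w ∈ zpowers (y⁻¹ * (τ * y * τ)) := by
  have hτi := inv_eq_of_mul_eq_one_right h.ττ
  have hFt : ∀ w ∈ F, τ * w * τ ∈ F := fun w hw => by simpa [hτi] using hFn.conj_mem w hw τ
  have hfF : y⁻¹ * (τ * y * τ) ∈ F := hout _ (inv_mem hyQ) _ (h.tmem hyQ)
    (fun hh => hyF (inv_mem_iff.1 hh)) fun hh => hyF (tconj_tconj h.ττ y ▸ hFt _ hh)
  refine ⟨hfF, ?_⟩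
  set f := y⁻¹ * (τ * y * τ) with hf
  obtain ⟨g₀, hg₀⟩ := hFc.exists_generator
  set g : P := g₀.1 with hg
  have hgen : ∀ w ∈ F, ∃ i : ℤ, w = g ^ i := fun w hw => by
    obtain ⟨i, hi⟩ := Subgroup.mem_zpowers_iff.1 (hg₀ ⟨w, hw⟩)
    exact ⟨i, by simpa using (congrArg Subtype.val hi).symm⟩
  obtain ⟨j, hj⟩ := hgen _ (hFt g g₀.2)
  set D : P := g ^ (j - 1) with hD
  have hσ : ∀ k : ℤ, τ * g ^ k * τ = g ^ k * D ^ k := fun k => by
    have e := conj_zpow (a := τ) (b := g) (i := k)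
    rw [hτi, hj] at e
    rw [← e, hD, ← zpow_mul, ← zpow_mul, ← zpow_add]
    congr 1
    ring
  have hd : orderOf g ∣ 2 * orderOf D := by
    have h1 : τ * g ^ (orderOf D : ℤ) * τ = g ^ (orderOf D : ℤ) := by
      rw [hσ, zpow_natCast D, pow_orderOf_eq_one, mul_one]
    refine orderOf_dvd_iff_pow_eq_one.2 ?_
    rcases h.fix _ (hFQ (zpow_mem g₀.2 _)) h1 with e | e <;> rw [zpow_natCast] at e <;>
      rw [mul_comm, pow_mul, e, pow_two]
    · exact one_mul 1
    · exact h.ρρ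
  set K := (zpowers D).subgroupOf (zpowers g) with hK
  have hKcard : Nat.card K = orderOf D := by
    rw [hK, Nat.card_congr (subgroupOfEquivOfLe (zpowers_le.2 (zpow_mem (mem_zpowers g) _))).toEquiv,
      Nat.card_zpowers]
  have hKi : K.index ≤ 2 := by
    have h1 := K.card_mul_index
    rw [hKcard, Nat.card_zpowers] at h1
    have h2 : orderOf g ≤ 2 * orderOf D := Nat.le_of_dvd (Nat.mul_pos two_pos (orderOf_pos D)) hd
    rw [← h1, mul_comm 2] at h2
    exact Nat.le_of_mul_le_mul_left h2 (orderOf_pos D)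
  have hKpos : K.index ≠ 0 := FiniteIndex.index_ne_zero
  have hgg : g ^ (2 : ℤ) ∈ zpowers D := by
    have hKn : K.Normal := K.normal_of_isMulCommutative
    have h1 := K.pow_index_mem (⟨g, mem_zpowers g⟩ : zpowers g)
    rw [hK, mem_subgroupOf, SubmonoidClass.coe_pow] at h1
    rcases (show K.index = 1 ∨ K.index = 2 by omega) with e | e <;> rw [← hK, e] at h1
    · exact zpow_mem (by simpa using h1) 2
    · exact (zpow_ofNat g 2).symm ▸ h1
  obtain ⟨i, hi⟩ := hgen f hfF
  rcases Int.even_or_odd' i with ⟨l, rfl | rfl⟩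
  · exfalso
    obtain ⟨k, hk⟩ := Subgroup.mem_zpowers_iff.1 hgg
    have hfD : f = D ^ (k * l) := by rw [hi, zpow_mul, zpow_mul, ← hk]
    have hfix : τ * (y * (g ^ (k * l))⁻¹) * τ = y * (g ^ (k * l))⁻¹ := by
      rw [tconj_mul h.ττ, tconj_inv h.ττ, hσ, show τ * y * τ = y * f by rw [hf]; group, hfD,
        mul_inv_rev]
      group
    have hmem : y * (g ^ (k * l))⁻¹ ∈ F := by
      rcases h.fix _ (mul_mem hyQ (inv_mem (hFQ (zpow_mem g₀.2 _)))) hfix with e | e <;> rw [e]
      · exact one_mem F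
      · exact hρF
    exact hyF ((F.mul_mem_cancel_right (inv_mem (zpow_mem g₀.2 _))).1 hmem)
  · obtain ⟨n, hn⟩ := IsPGroup.iff_orderOf.1 h.pP g
    obtain ⟨a, b, hab⟩ : IsCoprime (2 * l + 1) ((2 : ℤ) ^ n) :=
      IsCoprime.pow_right ⟨1, -l, by ring⟩
    intro w hw
    obtain ⟨c, rfl⟩ := hgen w hw
    refine Subgroup.mem_zpowers_iff.2 ⟨a * c, ?_⟩
    have h0 : g ^ ((2 : ℤ) ^ n) = 1 := by
      have : g ^ ((2 ^ n : ℕ) : ℤ) = 1 := by rw [zpow_natCast, ← hn, pow_orderOf_eq_one]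
      simpa using this
    rw [hi, ← zpow_mul, show (2 * l + 1) * (a * c) = c + (2 : ℤ) ^ n * (-(b * c)) by
      linear_combination c * hab, zpow_add, zpow_mul g, h0, one_zpow, mul_one]

/-- An invariant subgroup of `Q` not inside `F` contains `F`. -/
theorem TwoFixed.le_of_not_le {Q : Subgroup P} [hQ : Q.Normal] {τ ρ : P} (h : TwoFixed Q τ ρ)
    {F : Subgroup P} (hFQ : F ≤ Q) (hFn : F.Normal) (hFc : IsCyclic F) (hρF : ρ ∈ F)
    (hout : ∀ a ∈ Q, ∀ b ∈ Q, a ∉ F → b ∉ F → a * b ∈ F) {K : Subgroup P}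
    (hK : ∀ k ∈ K, τ * k * τ ∈ K) {y : P} (hyQ : y ∈ Q) (hyK : y ∈ K) (hyF : y ∉ F) : F ≤ K := by
  intro w hw
  exact zpowers_le.2 (mul_mem (inv_mem hyK) (hK y hyK))
    ((h.gen_mem hFQ hFn hFc hρF hout hyQ hyF).2 w hw)

/-- If an involution of `Q` outside `F` centralizes `F` then `F` has order at most two. -/
theorem TwoFixed.eq_of_involution {Q : Subgroup P} [hQ : Q.Normal] {τ ρ : P} (h : TwoFixed Q τ ρ)
    {F : Subgroup P} (hFQ : F ≤ Q) (hFn : F.Normal) (hFc : IsCyclic F) (hρF : ρ ∈ F)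
    (hout : ∀ a ∈ Q, ∀ b ∈ Q, a ∉ F → b ∉ F → a * b ∈ F) {y : P} (hyQ : y ∈ Q) (hyF : y ∉ F)
    (hyy : y * y = 1) (hyc : ∀ w ∈ F, y * w = w * y) : ∀ w ∈ F, w = 1 ∨ w = ρ := by
  obtain ⟨hfF, hgen⟩ := h.gen_mem hFQ hFn hFc hρF hout hyQ hyF
  set f := y⁻¹ * (τ * y * τ) with hf
  have hff : f * f = 1 := by
    have h1 : τ * y * τ * (τ * y * τ) = 1 := by rw [← tconj_mul h.ττ, hyy, mul_one, h.ττ]
    rw [show τ * y * τ = y * f by rw [hf]; group,
      show y * f * (y * f) = y * (f * y) * f by group, ← hyc f hfF, ← mul_assoc y y, hyy,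
      one_mul] at h1
    exact h1
  intro w hw
  have hww : w * w = 1 := by
    obtain ⟨k, rfl⟩ := Subgroup.mem_zpowers_iff.1 (hgen w hw)
    rw [← zpow_add, ← two_mul, zpow_mul, zpow_two, hff, one_zpow]
  exact FourRankOne.sq_eq_one_cases hρF hw h.ρρ h.ρ1 hww

end Cfsg.Agent.CycFour
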