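import Cfsg.Agent.CycFour.Core
import Cfsg.Agent.CycFour.Quot

/-!
The structure of `S` given the moved involution `e`: modulo `E = ⟨z, e⟩` the involution `t` fixes
two elements only.
-/

set_option autoImplicit false
set_option linter.unusedSectionVars false

namespace Cfsg.Agent.CycFour

open Subgroup

variable {G : Type*} [Group G] [Finite G] {A S : Subgroup G} {t r e : G}

theorem Good.ze (h : Setup A S t r) (g : Good S t r e) : e * (r * r) = r * r * e := h.zc e g.eS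

theorem Good.ez2 (h : Setup A S t r) (g : Good S t r e) : e * (r * r) * (e * (r * r)) = 1 := by
  rw [show e * (r * r) * (e * (r * r)) = e * ((r * r) * e) * (r * r) by group, ← g.ze h,
    ← mul_assoc e e, g.ee, one_mul, h.zz]

/-- The four-group `⟨z, e⟩`. -/
theorem Good.exists_E (h : Setup A S t r) (g : Good S t r e) :
    ∃ E : Subgroup G, ∀ x, x ∈ E ↔ x = 1 ∨ x = r * r ∨ x = e ∨ x = e * (r * r) := by
  have hc := g.ze h
  obtain ⟨z, hz⟩ : ∃ z, z = r * r := ⟨_, rfl⟩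
  have hzz : z * z = 1 := hz ▸ h.zz
  rw [← hz] at hc ⊢
  have hee := g.ee
  have e1 : z * (e * z) = e := by rw [hc, ← mul_assoc, hzz, one_mul]
  have e2 : e * (e * z) = z := by rw [← mul_assoc, hee, one_mul]
  have e3 : e * z * e = z := by rw [mul_assoc, ← hc, e2]
  have e4 : e * z * z = e := by rw [mul_assoc, hzz, mul_one]
  have e5 : e * z * (e * z) = 1 := by rw [mul_assoc, e1, hee]
  have e6 : (e * z)⁻¹ = e * z := inv_eq_of_mul_eq_one_right e5
  exact ⟨{ carrier := {x | x = 1 ∨ x = z ∨ x = e ∨ x = e * z}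
           one_mem' := Or.inl rfl
           mul_mem' := fun {p q} hp hq => by
            rcases hp with rfl | rfl | rfl | rfl <;> rcases hq with rfl | rfl | rfl | rfl <;>
              simp only [Set.mem_ofPred_eq, one_mul, mul_one, hzz, hee, e1, e2, e3, e4, e5, ← hc,
                true_or, or_true]
           inv_mem' := fun {p} hp => by
            rcases hp with rfl | rfl | rfl | rfl <;>
              simp only [Set.mem_ofPred_eq, inv_one, inv_eq_of_mul_eq_one_right hzz,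
                inv_eq_of_mul_eq_one_right hee, e6, true_or, or_true] }, fun _ => Iff.rfl⟩

variable {E : Subgroup G}

theorem Good.E_le (h : Setup A S t r) (g : Good S t r e)
    (hE : ∀ x, x ∈ E ↔ x = 1 ∨ x = r * r ∨ x = e ∨ x = e * (r * r)) : E ≤ S := by
  intro x hx
  rcases (hE x).1 hx with rfl | rfl | rfl | rfl
  exacts [one_mem S, h.zS, g.eS, mul_mem g.eS h.zS]

theorem Good.E_sq (h : Setup A S t r) (g : Good S t r e)
    (hE : ∀ x, x ∈ E ↔ x = 1 ∨ x = r * r ∨ x = e ∨ x = e * (r * r)) {x : G} (hx : x ∈ E) :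
    x * x = 1 := by
  rcases (hE x).1 hx with rfl | rfl | rfl | rfl
  exacts [one_mul 1, h.zz, g.ee, g.ez2 h]

theorem Good.E_tfix (h : Setup A S t r) (g : Good S t r e)
    (hE : ∀ x, x ∈ E ↔ x = 1 ∨ x = r * r ∨ x = e ∨ x = e * (r * r)) {x : G} (hx : x ∈ E) :
    t * x * t ∈ E := by
  rcases (hE x).1 hx with rfl | rfl | rfl | rfl
  · rw [mul_one, h.tt]; exact one_mem E
  · rw [h.z_fix]; exact hx
  · rw [g.te]; exact (hE _).2 (Or.inr (Or.inr (Or.inr rfl)))
  · rw [tconj_mul h.tt, g.te, h.z_fix, mul_assoc, h.zz, mul_one]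
    exact (hE _).2 (Or.inr (Or.inr (Or.inl rfl)))

theorem Good.E_conj (h : Setup A S t r) (g : Good S t r e)
    (hE : ∀ x, x ∈ E ↔ x = 1 ∨ x = r * r ∨ x = e ∨ x = e * (r * r)) {s x : G} (hs : s ∈ S)
    (hx : x ∈ E) : s * x * s⁻¹ ∈ E := by
  have hz : s * (r * r) * s⁻¹ = r * r := by rw [h.zc s hs, mul_inv_cancel_right]
  have he : s * e * s⁻¹ ∈ E := by
    rcases g.conj s hs with h1 | h1 <;> rw [h1] <;> simp [hE]
  have hzE : r * r ∈ E := by simp [hE]
  rcases (hE x).1 hx with rfl | rfl | rfl | rfl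
  · rw [mul_one, mul_inv_cancel]; exact one_mem E
  · rw [hz]; exact hzE
  · exact he
  · rw [← conj_mul, hz]; exact mul_mem he hzE

theorem Good.moved_swap (h : Setup A S t r) (g : Good S t r e) {s : G} (hs : s ∈ S)
    (hse : s * e * s⁻¹ ≠ e) : s * e * s⁻¹ = e * (r * r) :=
  (g.conj s hs).resolve_left hse

/-- Products of two elements of `S` moving `e` fix it. -/
theorem Good.out_mul (h : Setup A S t r) (g : Good S t r e) {a b : G} (ha : a ∈ S) (hb : b ∈ S)
    (hae : a * e ≠ e * a) (hbe : b * e ≠ e * b) : a * b * e = e * (a * b) := by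
  refine mul_inv_eq_iff_eq_mul.1 ?_
  rw [show a * b * e * (a * b)⁻¹ = a * (b * e * b⁻¹) * a⁻¹ by group,
    g.moved_swap h hb (fun e' => hbe (mul_inv_eq_iff_eq_mul.1 e')), ← conj_mul,
    g.moved_swap h ha (fun e' => hae (mul_inv_eq_iff_eq_mul.1 e')), h.zc a ha,
    mul_inv_cancel_right, mul_assoc, h.zz, mul_one]

/-- An element moved by `t` within its coset of `E` is a power of `r` times a power of `e`. -/
theorem Good.v_lemma (h : Setup A S t r) (g : Good S t r e)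
    (hE : ∀ x, x ∈ E ↔ x = 1 ∨ x = r * r ∨ x = e ∨ x = e * (r * r)) {x : G} (hx : x ∈ S)
    (hxE : x⁻¹ * (t * x * t) ∈ E) : x ∈ zpowers r ∨ x * e ∈ zpowers r := by
  obtain ⟨ε, hε⟩ : ∃ ε, ε = x⁻¹ * (t * x * t) := ⟨_, rfl⟩
  rw [← hε] at hxE
  have htx : t * x * t = x * ε := by rw [hε]; group
  have h2 : ε * (t * ε * t) = 1 := by
    have h1 : x = x * ε * (t * ε * t) := by
      rw [← htx, ← tconj_mul h.tt, ← htx, tconj_tconj h.tt]
    rw [mul_assoc] at h1
    exact mul_eq_left.1 h1.symm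
  have hεfix : t * ε * t = ε := by
    rw [← inv_eq_of_mul_eq_one_right h2, inv_eq_of_mul_eq_one_right (g.E_sq h hE hxE)]
  rcases h.fixed_inv (g.E_le h hE hxE) hεfix (g.E_sq h hE hxE) with e' | e'
  · rw [e', mul_one] at htx
    exact Or.inl (h.fixed hx htx)
  · right
    refine h.fixed (mul_mem hx g.eS) ?_
    rw [tconj_mul h.tt, htx, e', g.te, mul_assoc x (r * r), ← mul_assoc (r * r) e, ← g.ze h,
      mul_assoc e (r * r), h.zz, mul_one]

theorem Good.v_lemma' (h : Setup A S t r) (g : Good S t r e)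
    (hE : ∀ x, x ∈ E ↔ x = 1 ∨ x = r * r ∨ x = e ∨ x = e * (r * r)) {x : G} (hx : x ∈ S)
    (hxE : x⁻¹ * (t * x * t) ∈ E) : x ∈ E ∨ r⁻¹ * x ∈ E := by
  have hzE : r * r ∈ E := by simp [hE]
  have heE : e ∈ E := by simp [hE]
  have key : ∀ y ∈ zpowers r, y ∈ E ∨ r⁻¹ * y ∈ E := fun y hy => by
    rcases h.zpowers_cases hy with rfl | rfl | rfl | rfl
    · exact Or.inl (one_mem E)
    · exact Or.inr (by rw [inv_mul_cancel]; exact one_mem E)
    · exact Or.inl hzE
    · exact Or.inr (by rw [inv_mul_cancel_left]; exact hzE)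
  rcases g.v_lemma h hE hx hxE with h1 | h1
  · exact key x h1
  · rcases key _ h1 with h2 | h2
    · exact Or.inl ((E.mul_mem_cancel_right heE).1 h2)
    · exact Or.inr ((E.mul_mem_cancel_right heE).1 (by rwa [mul_assoc]))

/-- The central involutions of `S` lie in `E`. -/
theorem Good.central_mem (h : Setup A S t r) (g : Good S t r e)
    (hE : ∀ x, x ∈ E ↔ x = 1 ∨ x = r * r ∨ x = e ∨ x = e * (r * r)) {c : G} (hc : c ∈ S)
    (hcc : c * c = 1) (hcS : ∀ s ∈ S, s * c = c * s) : c ∈ E := by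
  have hzE : r * r ∈ E := by simp [hE]
  have heE : e ∈ E := by simp [hE]
  have hfix : t * (c * (t * c * t)) * t = c * (t * c * t) := by
    rw [tconj_mul h.tt, tconj_tconj h.tt, hcS _ (h.tS c hc)]
  have hy2 : c * (t * c * t) * (c * (t * c * t)) = 1 := by
    rw [show c * (t * c * t) * (c * (t * c * t)) = c * ((t * c * t) * c) * (t * c * t) by group,
      hcS _ (h.tS c hc), ← mul_assoc c c, hcc, one_mul, ← tconj_mul h.tt, hcc, mul_one, h.tt]
  rcases h.fixed_inv (mul_mem hc (h.tS c hc)) hfix hy2 with e' | e'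
  · have hcf : t * c * t = c := by
      rw [← inv_eq_of_mul_eq_one_right e', inv_eq_of_mul_eq_one_right hcc]
    rcases h.fixed_inv hc hcf hcc with e'' | e'' <;> rw [e'']
    · exact one_mem E
    · exact hzE
  · have htc : t * c * t = c * (r * r) := by rw [← e', ← mul_assoc, hcc, one_mul]
    have hf2 : t * (c * e) * t = c * e := by
      rw [tconj_mul h.tt, htc, g.te, mul_assoc c (r * r), ← mul_assoc (r * r) e, ← g.ze h,
        mul_assoc e (r * r), h.zz, mul_one]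
    have hce2 : c * e * (c * e) = 1 := by
      rw [show c * e * (c * e) = c * (e * c) * e by group, hcS e g.eS, ← mul_assoc c c, hcc,
        one_mul, g.ee]
    rcases h.fixed_inv (mul_mem hc g.eS) hf2 hce2 with e'' | e''
    · exact (E.mul_mem_cancel_right heE).1 (e'' ▸ one_mem E)
    · exact (E.mul_mem_cancel_right heE).1 (e'' ▸ hzE)

/-- `T = S ∪ S t` and `E` in it. -/
theorem Good.exists_T (h : Setup A S t r) (g : Good S t r e)
    (hE : ∀ x, x ∈ E ↔ x = 1 ∨ x = r * r ∨ x = e ∨ x = e * (r * r)) :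
    ∃ T : Subgroup G, (∀ x, x ∈ T ↔ x ∈ S ∨ x * t ∈ S) ∧ IsPGroup 2 T ∧ S ≤ T ∧ t ∈ T ∧
      (S.subgroupOf T).Normal ∧ (E.subgroupOf T).Normal := by
  obtain ⟨T, hT⟩ := exists_extend h.tt h.tS
  have hST : S ≤ T := fun x hx => (hT x).2 (Or.inl hx)
  have htT : t ∈ T := (hT t).2 (Or.inr (by rw [h.tt]; exact one_mem S))
  have hti := inv_eq_of_mul_eq_one_right h.tt
  have hnorm : ∀ K : Subgroup G, (∀ x ∈ K, t * x * t ∈ K) →
      (∀ s ∈ S, ∀ x ∈ K, s * x * s⁻¹ ∈ K) → (K.subgroupOf T).Normal := by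
    intro K hKt hKS
    refine ⟨fun x hx u => ?_⟩
    rw [mem_subgroupOf] at hx ⊢
    push_cast
    rcases (hT u).1 u.2 with hu | hu
    · exact hKS _ hu _ hx
    · have := hKS _ hu _ (hKt _ hx)
      rwa [mul_inv_rev, hti, show (u : G) * t * (t * (x : G) * t) * (t * (u : G)⁻¹) =
        u * (t * t) * x * (t * t) * (u : G)⁻¹ by group, h.tt, mul_one, mul_one] at this
  exact ⟨T, hT, isPGroup_extend h.S2 h.tt h.tS hT, hST, htT,
    hnorm S h.tS fun s hs x hx => mul_mem (mul_mem hs hx) (inv_mem hs),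
    hnorm E (fun x hx => g.E_tfix h hE hx) fun s hs x hx => g.E_conj h hE hs hx⟩

/-- If `r` moves `e` then `E` is the centralizer of `e` in `S`. -/
theorem Good.small (h : Setup A S t r) (g : Good S t r e)
    (hE : ∀ x, x ∈ E ↔ x = 1 ∨ x = r * r ∨ x = e ∨ x = e * (r * r))
    (hre : r * e ≠ e * r) : ∀ x ∈ S, x * e = e * x → x ∈ E := by
  obtain ⟨T, hT, hT2, hST, htT, hSn, hEn⟩ := g.exists_T h hE
  have hti := inv_eq_of_mul_eq_one_right h.tt
  have : Fact (Nat.Prime 2) := ⟨Nat.prime_two⟩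
  have hEC : E ≤ S ⊓ centralizer ({e} : Set G) := fun x hx => ⟨g.E_le h hE hx,
    mem_centralizer_singleton_iff.2 (by
      rcases (hE x).1 hx with rfl | rfl | rfl | rfl
      · rw [one_mul, mul_one]
      · exact (g.ze h).symm
      · rfl
      · rw [mul_assoc, ← g.ze h])⟩
  have hMn : ((S ⊓ centralizer ({e} : Set G)).subgroupOf T).Normal := by
    refine ⟨fun x hx u => ?_⟩
    rw [mem_subgroupOf] at hx ⊢
    push_cast
    have hxS : (x : G) ∈ S := hx.1
    have hxe : (x : G) * e = e * x := mem_centralizer_singleton_iff.1 hx.2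
    have hxez : (x : G) * (e * (r * r)) = e * (r * r) * x := by
      rw [← mul_assoc, hxe, mul_assoc, h.zc _ hxS, ← mul_assoc]
    refine ⟨mem_subgroupOf.1 (hSn.conj_mem x hxS u), mem_centralizer_singleton_iff.2 ?_⟩
    have hu : (u : G)⁻¹ * e * u = e ∨ (u : G)⁻¹ * e * u = e * (r * r) := by
      have hu' : ((u⁻¹ : T) : G) * e * ((u⁻¹ : T) : G)⁻¹ ∈ E := mem_subgroupOf.1
        (hEn.conj_mem ⟨e, hST g.eS⟩ (mem_subgroupOf.2 (by simp [hE])) u⁻¹)
      push_cast at hu'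
      rw [inv_inv] at hu'
      have hzc : (u : G) * (r * r) = r * r * u := by
        rcases (hT u).1 u.2 with hu | hu
        · exact h.zc _ hu
        · have e2 : t * (r * r) = r * r * t := (tconj_eq_iff h.tt).1 h.z_fix
          calc (u : G) * (r * r) = u * t * (t * (r * r)) := by
                rw [← mul_assoc (↑u * t), mul_assoc (u : G) t t, h.tt, mul_one]
            _ = u * t * (r * r) * t := by rw [e2, mul_assoc (↑u * t)]
            _ = r * r * (u * t) * t := by rw [h.zc _ hu]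
            _ = r * r * u := by rw [mul_assoc (r * r), mul_assoc (u : G), h.tt, mul_one]
      rcases (hE _).1 hu' with e' | e' | e' | e'
      · exact absurd (show e = 1 by
          calc e = u * ((u : G)⁻¹ * e * u) * (u : G)⁻¹ := by group
            _ = 1 := by rw [e', mul_one, mul_inv_cancel]) g.e1
      · exact absurd (show e = r * r by
          calc e = u * ((u : G)⁻¹ * e * u) * (u : G)⁻¹ := by group
            _ = _ := by rw [e', hzc, mul_inv_cancel_right]) g.ez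
      · exact Or.inl e'
      · exact Or.inr e'
    calc (u : G) * x * (u : G)⁻¹ * e = u * (x * ((u : G)⁻¹ * e * u)) * (u : G)⁻¹ := by group
      _ = u * (((u : G)⁻¹ * e * u) * x) * (u : G)⁻¹ := by
        rcases hu with e' | e' <;> rw [e']
        · rw [hxe]
        · rw [hxez]
      _ = _ := by group
  by_contra! hcon
  obtain ⟨x₀, hx₀, hx₀e, hx₀E⟩ := hcon
  have hlt : E.subgroupOf T < (S ⊓ centralizer ({e} : Set G)).subgroupOf T := by
    refine lt_of_le_of_ne (fun x hx => hEC hx) fun e' => hx₀E ?_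
    have h1 : (⟨x₀, hST hx₀⟩ : T) ∈ (S ⊓ centralizer ({e} : Set G)).subgroupOf T :=
      ⟨hx₀, mem_centralizer_singleton_iff.2 hx₀e⟩
    rw [← e'] at h1
    exact h1
  obtain ⟨L, hLn, hEL, hLM, hcard, hcomm⟩ := Fusion.exists_normal_card_succ hT2 _ _ hlt
  obtain ⟨x, hxL, hxE⟩ := SetLike.exists_of_lt (lt_of_le_of_ne hEL fun e' => by
    rw [← e'] at hcard
    have := Nat.card_pos (α := E.subgroupOf T)
    omega)
  have hxS : (x : G) ∈ S := (hLM hxL).1
  have hxe : (x : G) * e = e * x := mem_centralizer_singleton_iff.1 (hLM hxL).2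
  have hc : (x : G)⁻¹ * (t * x * t) ∈ E := by
    have h0 := hcomm (commutator_mem_commutator (inv_mem hxL) (mem_top (⟨t, htT⟩ : T)))
    rw [mem_subgroupOf, commutatorElement_def] at h0
    push_cast at h0
    rwa [inv_inv, hti, show (x : G)⁻¹ * t * x * t = (x : G)⁻¹ * (t * x * t) by group] at h0
  rcases g.v_lemma' h hE hxS hc with h1 | h1
  · exact hxE h1
  · refine hre ?_
    have h2 : r⁻¹ * (x : G) * e = e * (r⁻¹ * x) := mem_centralizer_singleton_iff.1 (hEC h1).2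
    rw [mul_assoc, hxe, ← mul_assoc, ← mul_assoc e r⁻¹] at h2
    have h3 := mul_right_cancel h2
    calc r * e = r * (e * r⁻¹) * r := by group
      _ = r * (r⁻¹ * e) * r := by rw [h3]
      _ = e * r := by group

/-- If `r` fixes `e`: the preimage `M₀` of the cyclic subgroup of index at most two modulo `E`. -/
structure Core0 (S E : Subgroup G) (t r : G) (M₀ : Subgroup G) (m : G) : Prop where
  le : M₀ ≤ S
  Ele : E ≤ M₀
  rmem : r ∈ M₀
  mmem : m ∈ M₀
  normal : ∀ s ∈ S, ∀ x ∈ M₀, s * x * s⁻¹ ∈ M₀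
  out : ∀ a ∈ S, ∀ b ∈ S, a ∉ M₀ → b ∉ M₀ → a * b ∈ M₀
  gen : ∀ x ∈ M₀, ∃ i : ℤ, ∃ ε ∈ E, x = m ^ i * ε
  below : ∀ K : Subgroup G, K ≤ S → E ≤ K → (∀ k ∈ K, t * k * t ∈ K) →
    ∀ y ∈ K, y ∉ M₀ → M₀ ≤ K
  invol : ∀ y ∈ S, y ∉ M₀ → y * y ∈ E → (∀ x ∈ M₀, y * x * y⁻¹ * x⁻¹ ∈ E) →
    ∀ x ∈ M₀, x ∈ E ∨ r⁻¹ * x ∈ E
  rcomm : ∀ s ∈ S, r * s * r⁻¹ * s⁻¹ ∈ E

theorem Good.exists_core0 (h : Setup A S t r) (g : Good S t r e)
    (hE : ∀ x, x ∈ E ↔ x = 1 ∨ x = r * r ∨ x = e ∨ x = e * (r * r))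
    (hre : r * e = e * r) : ∃ M₀ m, Core0 S E t r M₀ m := by
  obtain ⟨T, hT, hT2, hST, htT, hSn, hEn⟩ := g.exists_T h hE
  have hti := inv_eq_of_mul_eq_one_right h.tt
  set E' := E.subgroupOf T with hE'
  let π : T →* T ⧸ E' := QuotientGroup.mk' E'
  have hπs : Function.Surjective π := QuotientGroup.mk'_surjective E'
  set Q := (S.subgroupOf T).map π with hQ
  have : Q.Normal := hSn.map π hπs
  have hmemQ : ∀ x : T, π x ∈ Q ↔ (x : G) ∈ S := by
    intro x
    constructor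
    · rintro ⟨y, hy, e'⟩
      have h1 : ((y⁻¹ * x : T) : G) ∈ E := mem_subgroupOf.1 (QuotientGroup.eq.1 e')
      have h2 := mul_mem (show (y : G) ∈ S from hy) (g.E_le h hE h1)
      simpa using h2
    · intro hx; exact ⟨x, hx, rfl⟩
  have hπE : ∀ x : T, π x = 1 ↔ (x : G) ∈ E := fun x =>
    (QuotientGroup.eq_one_iff (N := E') x).trans mem_subgroupOf
  have hrE : r ∉ E := fun hh => h.z1 (g.E_sq h hE hh)
  have hzE : r * r ∈ E := by simp [hE]
  set τ := π ⟨t, htT⟩ with hτ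
  set ρ := π ⟨r, hST h.rS⟩ with hρ
  have hTF : TwoFixed Q τ ρ :=
    { pP := hT2.to_quotient E'
      ττ := by rw [hτ, ← map_mul, hπE]; push_cast; rw [h.tt]; exact one_mem E
      ρQ := (hmemQ _).2 h.rS
      ρ1 := fun hh => hrE ((hπE _).1 hh)
      ρρ := by rw [hρ, ← map_mul, hπE]; exact hzE
      ρfix := by
        rw [hτ, hρ, ← map_mul, ← map_mul]
        exact congrArg π (Subtype.ext h.r_fix)
      fix := by
        intro q hq hfix
        obtain ⟨⟨x, hxT⟩, hxS, rfl⟩ := hq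
        rw [hτ, ← map_mul, ← map_mul, eq_comm] at hfix
        have h1 := mem_subgroupOf.1 (QuotientGroup.eq.1 hfix)
        push_cast at h1
        rcases g.v_lemma' h hE hxS h1 with h2 | h2
        · exact Or.inl ((hπE _).2 h2)
        · refine Or.inr (Eq.symm (QuotientGroup.eq.2 (mem_subgroupOf.2 ?_)))
          push_cast
          exact h2 }
  obtain ⟨F, hFQ, hFn, hFc, hρF, hout⟩ := hTF.exists_core
  obtain ⟨γ₀, hγ⟩ := hFc.exists_generator
  obtain ⟨m₀, hm₀⟩ := hπs γ₀.1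
  have hmem : ∀ x : G, x ∈ (F.comap π).map T.subtype → x ∈ S := by
    rintro _ ⟨x, hx, rfl⟩
    exact (hmemQ x).1 (hFQ hx)
  have hiff : ∀ x : T, (x : G) ∈ (F.comap π).map T.subtype ↔ π x ∈ F := by
    intro x
    constructor
    · rintro ⟨y, hy, e'⟩
      exact (Subtype.ext e' : y = x) ▸ hy
    · intro hx; exact ⟨x, hx, rfl⟩
  refine ⟨(F.comap π).map T.subtype, m₀,
    { le := hmem
      Ele := fun x hx => (hiff ⟨x, hST (g.E_le h hE hx)⟩).2 (by
        rw [(hπE ⟨x, _⟩).2 hx]; exact one_mem F)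
      rmem := (hiff ⟨r, hST h.rS⟩).2 hρF
      mmem := (hiff m₀).2 (by rw [hm₀]; exact γ₀.2)
      normal := ?_, out := ?_, gen := ?_, below := ?_, invol := ?_, rcomm := ?_ }⟩
  · rintro s hs _ ⟨x, hx, rfl⟩
    refine (hiff (⟨s, hST hs⟩ * x * ⟨s, hST hs⟩⁻¹)).2 ?_
    rw [map_mul, map_mul, map_inv]
    exact hFn.conj_mem _ hx _
  · intro a ha b hb haM hbM
    refine (hiff (⟨a, hST ha⟩ * ⟨b, hST hb⟩)).2 ?_
    rw [map_mul]
    exact hout _ ((hmemQ _).2 ha) _ ((hmemQ _).2 hb)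
      (fun hh => haM ((hiff ⟨a, hST ha⟩).2 hh)) fun hh => hbM ((hiff ⟨b, hST hb⟩).2 hh)
  · rintro _ ⟨x, hx, rfl⟩
    obtain ⟨i, hi⟩ := Subgroup.mem_zpowers_iff.1 (hγ ⟨π x, hx⟩)
    refine ⟨i, ((m₀ ^ i)⁻¹ * x : T), (hπE _).1 ?_, ?_⟩
    · have h1 := congrArg Subtype.val hi
      simp only [SubgroupClass.coe_zpow] at h1
      rw [map_mul, map_inv, map_zpow, hm₀, h1, inv_mul_cancel]
    · simp
  · intro K hKS hEK hKt y hy hyM x hx
    obtain ⟨x, hx, rfl⟩ := hx
    have hK' : ∀ k ∈ (K.subgroupOf T).map π, τ * k * τ ∈ (K.subgroupOf T).map π := by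
      rintro _ ⟨k, hk, rfl⟩
      exact ⟨⟨t, htT⟩ * k * ⟨t, htT⟩, hKt _ hk, by rw [map_mul, map_mul]⟩
    obtain ⟨k, hk, e'⟩ := hTF.le_of_not_le hFQ hFn hFc hρF hout hK'
      ((hmemQ ⟨y, hST (hKS hy)⟩).2 (hKS hy)) ⟨⟨y, hST (hKS hy)⟩, hy, rfl⟩
      (fun hh => hyM ((hiff ⟨y, hST (hKS hy)⟩).2 hh)) hx
    have h1 := hEK (mem_subgroupOf.1 (QuotientGroup.eq.1 e'))
    have h2 := mul_mem (show (k : G) ∈ K from hk) h1
    simpa using h2
  · intro y hy hyM hyy hyc x hx
    obtain ⟨x, hx, rfl⟩ := hx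
    have hc : ∀ w ∈ F, π ⟨y, hST hy⟩ * w = w * π ⟨y, hST hy⟩ := by
      intro w hw
      obtain ⟨w, rfl⟩ := hπs w
      have h1 := hyc w ((hiff w).2 hw)
      rw [← mul_inv_eq_iff_eq_mul, ← mul_inv_eq_one, ← map_inv, ← map_inv, ← map_mul, ← map_mul,
        ← map_mul, hπE]
      simpa using h1
    rcases hTF.eq_of_involution hFQ hFn hFc hρF hout ((hmemQ ⟨y, hST hy⟩).2 hy)
      (fun hh => hyM ((hiff ⟨y, hST hy⟩).2 hh))
      (by rw [← map_mul, hπE]; exact hyy) hc (π x) hx with e' | e'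
    · exact Or.inl ((hπE x).1 e')
    · refine Or.inr ?_
      have h1 := mem_subgroupOf.1 (QuotientGroup.eq.1 e'.symm)
      simpa using h1
  · intro s hs
    have h1 : π (⟨r, hST h.rS⟩ * ⟨s, hST hs⟩ * ⟨r, hST h.rS⟩⁻¹ * ⟨s, hST hs⟩⁻¹) = 1 := by
      rw [map_mul, map_mul, map_mul, map_inv, map_inv, ← hρ, ← hTF.rho_central,
        mul_inv_cancel_right, mul_inv_cancel]
    simpa using (hπE _).1 h1

end Cfsg.Agent.CycFour
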