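import Cfsg.Agent.CycFour.Central

/-!
A perfect subgroup normalised by an involution with Sylow 2-subgroups of the centralizer cyclic
of order four has no four-group.
-/

set_option autoImplicit false

namespace Cfsg.Agent.CycFour

open Subgroup

variable {G : Type*} [Group G] [Finite G] {A S : Subgroup G} {t r : G}

theorem Setup.absurd_setup (h : Setup A S t r) : False := by
  obtain ⟨e, g⟩ := h.exists_good
  obtain ⟨E, hE⟩ := g.exists_E h
  by_cases hre : r * e = e * r
  · obtain ⟨M₀, m, c⟩ := g.exists_core0 h hE hre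
    by_cases hall : ∀ s ∈ S, s * e = e * s
    · exact g.central_false h hE hall c
    push Not at hall
    obtain ⟨y, hy, hye⟩ := hall
    obtain ⟨hab, hinv, -⟩ := g.big_props h hE hre c hy hye
    exact g.moved_false h hE (fun a ha => g.not_conj_big h hE hre c hy hye ha) hab hinv hy hye
  · have hsmall := g.small h hE hre
    refine g.moved_false h hE (fun a ha => g.not_conj_small h hE hre ha)
      (fun u hu v _ hue hve => ?_) (fun u hu hue _ => hsmall u hu hue) h.rS hre
    exact g.comm_E h hE hu hue (hsmall v ‹_› hve)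

theorem rank_one (A : Subgroup G) (hperf : ⁅A, A⁆ = A) (t : G) (tt : t * t = 1) (t1 : t ≠ 1)
    (tA : t ∈ normalizer (A : Set G)) (r : G) (rA : r ∈ A) (r4 : orderOf r = 4)
    (tr : t * r = r * t)
    (cmax : ∀ R : Subgroup G, R ≤ A ⊓ centralizer ({t} : Set G) → IsPGroup 2 R → Nat.card R ≤ 4)
    (B : Subgroup G) (hBA : B ≤ A) (hB2 : ∀ x ∈ B, x * x = 1) : Nat.card B ≤ 2 := by
  by_contra hcard
  have hti := inv_eq_of_mul_eq_one_right tt
  have hrt : ∀ a ∈ zpowers r, t * a * t ∈ zpowers r := by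
    intro a ha
    obtain ⟨i, rfl⟩ := mem_zpowers_iff.1 ha
    rw [(tconj_eq_iff tt).2 (Commute.zpow_right tr i).eq]
    exact ha
  obtain ⟨U, hU⟩ := exists_extend (K := zpowers r) tt hrt
  have hUp := isPGroup_extend (IsPGroup.of_card (n := 2) (by rw [Nat.card_zpowers, r4]; rfl)) tt
    hrt hU
  have hUN : U ≤ normalizer (A : Set G) := by
    intro x hx
    rcases (hU x).1 hx with e | e
    · exact le_normalizer (zpowers_le.2 rA e)
    · have := mul_mem (le_normalizer (zpowers_le.2 rA e)) tA
      rwa [mul_assoc, tt, mul_one] at this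
  obtain ⟨T, hT, hUT, hTA, hconj⟩ := FourRankOne.exists_sylow_inter A U hUN hUp
  have htT : t ∈ T := hUT ((hU t).2 (Or.inr (by rw [tt]; exact one_mem _)))
  have hrT : r ∈ T := hUT ((hU r).2 (Or.inl (mem_zpowers r)))
  obtain ⟨a, ha⟩ := hconj B hBA fun x => ⟨1, Subtype.ext (by simpa [pow_two] using hB2 x x.2)⟩
  have hfour : ∃ x ∈ T ⊓ A, x * x = 1 ∧ x ≠ 1 ∧ x ≠ r * r := by
    by_contra! hcon
    have hsub : (fun x => a * x * a⁻¹) '' (B : Set G) ⊆ {1, r * r} := by
      rintro _ ⟨x, hx, rfl⟩
      by_cases h1 : a * x * a⁻¹ = 1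
      · exact Or.inl h1
      · exact Or.inr (hcon _ (ha x hx) (by rw [conj_mul, hB2 x hx, mul_one, mul_inv_cancel]) h1)
    have h2 := (Set.ncard_le_ncard hsub (Set.toFinite _)).trans (Set.ncard_insert_le _ _)
    rw [Set.ncard_image_of_injective _ fun x y e => mul_left_cancel (mul_right_cancel e),
      show (B : Set G).ncard = Nat.card B from rfl, Set.ncard_singleton] at h2
    omega
  refine Setup.absurd_setup (A := A) (S := T ⊓ A) (t := t) (r := r)
    { perf := hperf, tt := tt, t1 := t1, tA := tA, r4 := r4, tr := tr, cmax := cmax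
      SA := inf_le_right
      S2 := hT.to_le inf_le_left
      rS := ⟨hrT, rA⟩
      tS := fun s hs => ⟨T.mul_mem (T.mul_mem htT hs.1) htT, ?_⟩
      sylow := fun Q hQ hQ2 => ?_
      four := hfour }
  · have := (mem_normalizer_iff.1 tA s).1 hs.2
    rwa [hti] at this
  · obtain ⟨b, hb⟩ := hconj Q hQ hQ2
    rw [Nat.card_congr (equivMapOfInjective Q (MulAut.conj b).toMonoidHom (MulAut.conj b).injective).toEquiv]
    exact card_le_of_le (by rintro _ ⟨x, hx, rfl⟩; simpa using hb x hx)

end Cfsg.Agent.CycFour
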