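import Cfsg.Agent.CycFour.Four

/-!
No element of `S` moves `e`: otherwise `e` is not conjugate to `z` in `A`, and transfer to an
abelian quotient of `S` puts `e` into a subgroup not containing it.
-/

set_option autoImplicit false
set_option linter.unusedSectionVars false

namespace Cfsg.Agent.CycFour

open Subgroup

variable {G : Type*} [Group G] [Finite G] {A S E : Subgroup G} {t r e : G}

theorem Good.comm_E (h : Setup A S t r) (g : Good S t r e)
    (hE : ∀ x, x ∈ E ↔ x = 1 ∨ x = r * r ∨ x = e ∨ x = e * (r * r)) {a ε : G} (ha : a ∈ S)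
    (hae : a * e = e * a) (hε : ε ∈ E) : a * ε = ε * a := by
  rcases (hE ε).1 hε with rfl | rfl | rfl | rfl
  · rw [one_mul, mul_one]
  · exact h.zc a ha
  · exact hae
  · rw [← mul_assoc, hae, mul_assoc, h.zc a ha, ← mul_assoc]

theorem Setup.sylow_map_eq (h : Setup A S t r) {R : Subgroup G} (hRA : R ≤ A)
    (hR : IsPGroup 2 R) (hcard : Nat.card S ≤ Nat.card R) :
    ∃ a ∈ A, R.map (MulAut.conj a).toMonoidHom = S := by
  obtain ⟨a, ha, hconj⟩ := FourRankOne.exists_conj_le A S R h.SA h.S2 h.sylow hRA hR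
  exact ⟨a, ha, eq_of_le_of_card_ge (by rintro _ ⟨x, hx, rfl⟩; simpa using hconj x hx)
    (by rwa [card_map_of_injective (MulAut.conj a).injective])⟩

/-- A conjugation taking `e` to `z` can be taken to move the centralizer of `e` in `S` into `S`. -/
theorem Good.exists_conj_z (h : Setup A S t r) (g : Good S t r e) {a : G} (ha : a ∈ A)
    (hae : a * e * a⁻¹ = r * r) :
    ∃ b ∈ A, b * e * b⁻¹ = r * r ∧ ∀ x ∈ S, x * e = e * x → b * x * b⁻¹ ∈ S := by
  set L := A ⊓ centralizer ({r * r} : Set G)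
  have hSL : S ≤ L := fun x hx => ⟨h.SA hx, mem_centralizer_singleton_iff.2 (h.zc x hx)⟩
  set Q := (S ⊓ centralizer ({e} : Set G)).map (MulAut.conj a).toMonoidHom with hQ
  have hQL : Q ≤ L := by
    rintro _ ⟨x, hx, rfl⟩
    refine ⟨A.mul_mem (A.mul_mem ha (h.SA hx.1)) (A.inv_mem ha), mem_centralizer_singleton_iff.2 ?_⟩
    show a * x * a⁻¹ * (r * r) = r * r * (a * x * a⁻¹)
    rw [← hae, conj_mul, conj_mul, mem_centralizer_singleton_iff.1 hx.2]
  obtain ⟨k, hk, hkQ⟩ := FourRankOne.exists_conj_le L S Q hSL h.S2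
    (fun R hR hR2 => h.sylow R (hR.trans inf_le_left) hR2) hQL ((h.S2.to_le inf_le_left).map _)
  refine ⟨k * a, mul_mem hk.1 ha, ?_, fun x hx hxe => ?_⟩
  · rw [show k * a * e * (k * a)⁻¹ = k * (a * e * a⁻¹) * k⁻¹ by group, hae,
      mem_centralizer_singleton_iff.1 hk.2, mul_inv_cancel_right]
  · rw [show k * a * x * (k * a)⁻¹ = k * (a * x * a⁻¹) * k⁻¹ by group]
    exact hkQ _ ⟨x, ⟨hx, mem_centralizer_singleton_iff.2 hxe⟩, rfl⟩

/-- If `r` moves `e` then `e` is not conjugate to `z`. -/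
theorem Good.not_conj_small (h : Setup A S t r) (g : Good S t r e)
    (hE : ∀ x, x ∈ E ↔ x = 1 ∨ x = r * r ∨ x = e ∨ x = e * (r * r))
    (hre : r * e ≠ e * r) {a : G} (ha : a ∈ A) : a * e * a⁻¹ ≠ r * r := by
  intro hae
  obtain ⟨b, hb, hbe, hbM⟩ := g.exists_conj_z h ha hae
  have hsmall := g.small h hE hre
  have hti := inv_eq_of_mul_eq_one_right h.tt
  have hze := g.ze h
  have htz : t * (r * r) = r * r * t := (tconj_eq_iff h.tt).1 h.z_fix
  have hrE : r * e * r⁻¹ = e * (r * r) :=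
    g.moved_swap h h.rS fun e' => hre (mul_inv_eq_iff_eq_mul.1 e')
  have hrez : r * (e * (r * r)) * r⁻¹ = e := by
    rw [← conj_mul, hrE, h.zc r h.rS, mul_inv_cancel_right, mul_assoc, h.zz, mul_one]
  -- squares of the elements of `S t`
  have hsq : ∀ s ∈ S, s * (t * s * t) = 1 ∨ s * (t * s * t) = r * r := by
    intro s hs
    have h2 : s ∈ E ∨ r⁻¹ * s ∈ E := by
      by_cases hse : s * e = e * s
      · exact Or.inl (hsmall s hs hse)
      · refine Or.inr (hsmall _ (mul_mem (inv_mem h.rS) hs) (g.out_mul h (inv_mem h.rS) hs ?_ hse))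
        intro hh
        refine hre ?_
        calc r * e = r * (e * r⁻¹) * r := by group
          _ = r * (r⁻¹ * e) * r := by rw [hh]
          _ = e * r := by group
    rcases h2 with h2 | h2
    · rcases (hE s).1 h2 with rfl | rfl | rfl | rfl
      · left; rw [one_mul, mul_one, h.tt]
      · left; rw [h.z_fix, h.zz]
      · right; rw [g.te, ← mul_assoc, g.ee, one_mul]
      · right; rw [tconj_mul h.tt, g.te, h.z_fix, mul_assoc e (r * r) (r * r), h.zz, mul_one, hze,
          mul_assoc, g.ee, mul_one]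
    · right
      obtain ⟨ε, hε⟩ : ∃ ε, ε = r⁻¹ * s := ⟨_, rfl⟩
      have hs' : s = r * ε := by rw [hε]; group
      rw [← hε] at h2
      rw [hs', tconj_mul h.tt, h.r_fix,
        show r * ε * (r * (t * ε * t)) = r * ε * r⁻¹ * (r * r) * (t * ε * t) by group]
      rcases (hE ε).1 h2 with e1 | e1 | e1 | e1 <;> rw [e1]
      · rw [mul_one, mul_inv_cancel, one_mul, mul_one, h.tt, mul_one]
      · rw [h.zc r h.rS, mul_inv_cancel_right, h.zz, one_mul, h.z_fix]
      · rw [hrE, g.te, mul_assoc e (r * r) (r * r), h.zz, mul_one, ← mul_assoc, g.ee, one_mul]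
      · rw [hrez, tconj_mul h.tt, g.te, h.z_fix, mul_assoc e (r * r) (r * r), h.zz, mul_one, hze,
          mul_assoc, g.ee, mul_one]
  obtain ⟨H, hH⟩ := exists_extend (K := A) h.tt fun x hx => h.tAmem hx
  obtain ⟨T, hT⟩ := exists_extend h.tt h.tS
  have hT2 := isPGroup_extend h.S2 h.tt h.tS hT
  set L := H ⊓ centralizer ({r * r} : Set G)
  have hTL : T ≤ L := by
    intro x hx
    refine ⟨(hH x).2 (((hT x).1 hx).imp (fun e' => h.SA e') fun e' => h.SA e'),
      mem_centralizer_singleton_iff.2 ?_⟩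
    rcases (hT x).1 hx with e' | e'
    · exact h.zc x e'
    · calc x * (r * r) = x * t * (t * (r * r)) := by
            rw [← mul_assoc (x * t), mul_assoc x t t, h.tt, mul_one]
        _ = x * t * (r * r) * t := by rw [htz, mul_assoc (x * t)]
        _ = r * r * (x * t) * t := by rw [h.zc _ e']
        _ = r * r * x := by rw [mul_assoc (r * r), mul_assoc x, h.tt, mul_one]
  -- `w = t * r` commutes with `e` and squares to `z`
  have hwe : t * r * e = e * (t * r) := by
    calc t * r * e = t * (r * e * r⁻¹) * r := by group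
      _ = t * (e * (r * r)) * (t * t) * r := by rw [hrE, h.tt, mul_one]
      _ = (t * e * t) * (t * (r * r) * t) * (t * r) := by
        rw [show t * (e * (r * r)) * (t * t) * r = t * (e * (r * r)) * t * (t * r) by group,
          tconj_mul h.tt]
      _ = e * (t * r) := by rw [g.te, h.z_fix, mul_assoc e (r * r), h.zz, mul_one]
  have hww : t * r * (t * r) = r * r := by
    rw [show t * r * (t * r) = (t * r * t) * r by group, h.r_fix]
  set w' := b * (t * r) * b⁻¹ with hw'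
  have hw'4 : w' ^ 4 = 1 := by
    rw [hw', conj_pow, show (4 : ℕ) = 2 * 2 from rfl, pow_mul, pow_two, pow_two, hww, h.zz, mul_one,
      mul_inv_cancel]
  have hbH : b ∈ H := (hH b).2 (Or.inl hb)
  have hw'H : w' ∈ H := mul_mem (mul_mem hbH ((hH _).2 (Or.inr (by
    rw [h.r_fix]; exact h.SA h.rS)))) (inv_mem hbH)
  have hw'z : w' * (r * r) = r * r * w' := by
    rw [← hbe, hw', conj_mul, conj_mul, hwe]
  obtain ⟨k, hk, hkQ⟩ := FourRankOne.exists_conj_le L T (zpowers w') hTL hT2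
    (fun R hR hR2 => (card_extend h.tt (fun e' => h.tnA (h.SA e')) hT) ▸
      h.card_le hH (hR.trans inf_le_left) hR2)
    (zpowers_le.2 ⟨hw'H, mem_centralizer_singleton_iff.2 hw'z⟩)
    (fun x => ⟨2, by
      obtain ⟨i, hi⟩ := mem_zpowers_iff.1 x.2
      refine Subtype.ext ?_
      rw [SubmonoidClass.coe_pow, ← hi, show (2 : ℕ) ^ 2 = 4 from rfl, ← zpow_natCast, ← zpow_mul,
        mul_comm, zpow_mul, zpow_natCast, hw'4, one_zpow, OneMemClass.coe_one]⟩)
  set v := k * w' * k⁻¹ with hv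
  have hvT : v ∈ T := hkQ w' (mem_zpowers w')
  have hkA : k ∈ normalizer (A : Set G) := by
    rcases (hH k).1 hk.1 with e' | e'
    · exact le_normalizer e'
    · have := mul_mem (le_normalizer e') h.tA
      rwa [mul_assoc, h.tt, mul_one] at this
  have hvA : v ∉ A := by
    intro hvA
    refine h.tnA ?_
    have h1 : w' ∈ A := by
      have := (mem_normalizer_iff.1 (inv_mem hkA) _).1 hvA
      rw [hv] at this
      simpa [mul_assoc] using this
    rw [show t = b⁻¹ * w' * b * r⁻¹ by rw [hw']; group]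
    exact mul_mem (mul_mem (mul_mem (inv_mem hb) h1) hb) (inv_mem (h.SA h.rS))
  have hvt : v * t ∈ S := ((hT v).1 hvT).resolve_left fun e' => hvA (h.SA e')
  have hvv : v * v = k * (b * (r * r) * b⁻¹) * k⁻¹ := by
    rw [hv, conj_mul, hw', conj_mul, hww]
  have hvv' : v * v = v * t * (t * (v * t) * t) := by
    rw [show v * t * (t * (v * t) * t) = v * (t * t) * v * (t * t) by group, h.tt, mul_one, mul_one]
  have hbz : b * (r * r) * b⁻¹ = r * r := by
    rcases hsq _ hvt with e' | e' <;> rw [← hvv', hvv] at e'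
    · exact absurd (conj_eq_one_iff.1 (conj_eq_one_iff.1 e')) h.z1
    · calc b * (r * r) * b⁻¹ = k⁻¹ * (k * (b * (r * r) * b⁻¹) * k⁻¹) * k := by group
        _ = k⁻¹ * (r * r * k) := by rw [e', mul_assoc]
        _ = r * r := by rw [← mem_centralizer_singleton_iff.1 hk.2]; group
  exact g.ez (mul_left_cancel (mul_right_cancel (hbe.trans hbz.symm)))

/-- The centralizer of `e` in `S` when `r` fixes `e` and something moves it. -/
theorem Good.big_props (h : Setup A S t r) (g : Good S t r e)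
    (hE : ∀ x, x ∈ E ↔ x = 1 ∨ x = r * r ∨ x = e ∨ x = e * (r * r))
    (hre : r * e = e * r) {M₀ : Subgroup G} {m : G} (c : Core0 S E t r M₀ m) {y : G} (hy : y ∈ S)
    (hye : y * e ≠ e * y) :
    (∀ u ∈ S, ∀ v ∈ S, u * e = e * u → v * e = e * v → u * v = v * u) ∧
      (∀ u ∈ S, u * e = e * u → u * u = 1 → u ∈ E) ∧
      ∀ u ∈ S, u * e = e * u → u * u * (u * u) = 1 → u * u = 1 ∨ u * u = r * r := by
  have hmS : m ∈ S := c.le c.mmem
  set M := S ⊓ centralizer ({e} : Set G) with hM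
  have hEM : E ≤ M := fun x hx => by
    refine ⟨g.E_le h hE hx, mem_centralizer_singleton_iff.2 ?_⟩
    exact (g.comm_E h hE g.eS rfl hx).symm
  have hMt : ∀ k ∈ M, t * k * t ∈ M := fun k hk => by
    refine ⟨h.tS k hk.1, mem_centralizer_singleton_iff.2 ?_⟩
    have h1 : k * (e * (r * r)) = e * (r * r) * k :=
      g.comm_E h hE hk.1 (mem_centralizer_singleton_iff.1 hk.2) (by simp [hE])
    calc t * k * t * e = t * k * (t * e * t) * t := by
          rw [show t * k * (t * e * t) * t = t * k * t * e * (t * t) by group, h.tt, mul_one]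
      _ = t * (k * (e * (r * r))) * t := by rw [g.te]; group
      _ = (t * (e * (r * r)) * t) * (t * k * t) := by rw [h1, tconj_mul h.tt]
      _ = e * (t * k * t) := by
          rw [tconj_mul h.tt, g.te, h.z_fix, mul_assoc e (r * r), h.zz, mul_one]
  have hMM₀ : ∀ u ∈ M, u ∈ M₀ := by
    intro u hu
    by_contra hu0
    have h1 := c.below M inf_le_left hEM hMt u hu hu0
    refine hye (mem_centralizer_singleton_iff.1 ?_)
    by_cases hy0 : y ∈ M₀
    · exact (h1 hy0).2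
    · have h2 := mul_mem (inv_mem hu)
        (h1 (c.out u hu.1 y hy hu0 hy0))
      rw [inv_mul_cancel_left] at h2
      exact h2.2
  have hrep : ∀ u ∈ S, u * e = e * u → ∃ i : ℤ, ∃ ε ∈ E, u = m ^ i * ε ∧
      (∀ ε' ∈ E, m ^ i * ε' = ε' * m ^ i) := by
    intro u hu hue
    obtain ⟨i, ε, hε, hi⟩ := c.gen u (hMM₀ u ⟨hu, mem_centralizer_singleton_iff.2 hue⟩)
    refine ⟨i, ε, hε, hi, fun ε' hε' => g.comm_E h hE (zpow_mem hmS i) ?_ hε'⟩
    have h2 : m ^ i ∈ M := by
      have h3 := mul_mem (show u ∈ M from ⟨hu, mem_centralizer_singleton_iff.2 hue⟩)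
        (hEM (inv_mem hε))
      rwa [hi, mul_inv_cancel_right] at h3
    exact mem_centralizer_singleton_iff.1 h2.2
  have hsq : ∀ u ∈ S, u * e = e * u → u * u ∈ zpowers m := by
    intro u hu hue
    obtain ⟨i, ε, hε, hi, hc⟩ := hrep u hu hue
    refine mem_zpowers_iff.2 ⟨i + i, ?_⟩
    rw [hi, show m ^ i * ε * (m ^ i * ε) = m ^ i * (ε * m ^ i) * ε by group, ← hc ε hε,
      ← mul_assoc, mul_assoc (m ^ i * m ^ i), g.E_sq h hE hε, mul_one, zpow_add]
  have hz : r * r ∈ zpowers m := hsq r h.rS hre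
  refine ⟨fun u hu v hv hue hve => ?_, fun u hu hue huu => ?_, fun u hu hue hu4 =>
    FourRankOne.sq_eq_one_cases hz (hsq u hu hue) h.zz h.z1 hu4⟩
  · obtain ⟨i, ε, hε, hi, hc⟩ := hrep u hu hue
    obtain ⟨j, ε', hε', hj, hc'⟩ := hrep v hv hve
    have hεε : ε * ε' = ε' * ε := g.comm_E h hE (g.E_le h hE hε)
      (g.comm_E h hE g.eS rfl hε).symm hε'
    have C1 : Commute (m ^ i) (m ^ j) := Commute.zpow_zpow (Commute.refl m) i j
    rw [hi, hj]
    calc m ^ i * ε * (m ^ j * ε') = m ^ i * (ε * m ^ j) * ε' := by group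
      _ = (m ^ i * m ^ j) * (ε * ε') := by rw [← hc' ε hε]; group
      _ = (m ^ j * m ^ i) * (ε' * ε) := by rw [C1.eq, hεε]
      _ = m ^ j * (m ^ i * ε') * ε := by group
      _ = m ^ j * ε' * (m ^ i * ε) := by rw [hc ε' hε']; group
  · obtain ⟨i, ε, hε, hi, hc⟩ := hrep u hu hue
    have h2 : m ^ i * m ^ i = 1 := by
      rw [hi, show m ^ i * ε * (m ^ i * ε) = m ^ i * (ε * m ^ i) * ε by group, ← hc ε hε,
        ← mul_assoc, mul_assoc (m ^ i * m ^ i), g.E_sq h hE hε, mul_one] at huu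
      exact huu
    rw [hi]
    rcases FourRankOne.sq_eq_one_cases hz (zpow_mem (mem_zpowers m) i) h.zz h.z1 h2 with e' | e' <;>
      rw [e']
    · rwa [one_mul]
    · exact mul_mem (by simp [hE]) hε

/-- If `r` fixes `e` and something moves it then `e` is not conjugate to `z`. -/
theorem Good.not_conj_big (h : Setup A S t r) (g : Good S t r e)
    (hE : ∀ x, x ∈ E ↔ x = 1 ∨ x = r * r ∨ x = e ∨ x = e * (r * r))
    (hre : r * e = e * r) {M₀ : Subgroup G} {m : G} (c : Core0 S E t r M₀ m) {y : G} (hy : y ∈ S)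
    (hye : y * e ≠ e * y) {a : G} (ha : a ∈ A) : a * e * a⁻¹ ≠ r * r := by
  intro hae
  obtain ⟨hab, hinv, hsq⟩ := g.big_props h hE hre c hy hye
  obtain ⟨b, hb, hbe, hbM⟩ := g.exists_conj_z h ha hae
  have hr' := hbM r h.rS hre
  set r' := b * r * b⁻¹ with hr'def
  have h' : r' * r' = b * (r * r) * b⁻¹ := by rw [hr'def, conj_mul]
  have hne : r' * r' ≠ r * r := fun e' => g.ez (mul_left_cancel (mul_right_cancel
    (hbe.trans (e'.symm.trans h'))))
  have hne1 : r' * r' ≠ 1 := fun e' => h.z1 (conj_eq_one_iff.1 (h'.symm.trans e'))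
  have h4 : r' * r' * (r' * r') = 1 := by rw [h', conj_mul, h.zz, mul_one, mul_inv_cancel]
  by_cases hr'e : r' * e = e * r'
  · exact (hsq r' hr' hr'e h4).elim hne1 hne
  have hM2 : r' * r' * e = e * (r' * r') := g.out_mul h hr' hr' hr'e hr'e
  have hS2 : r' * r' ∈ S := mul_mem hr' hr'
  have hcen : ∀ s ∈ S, s * (r' * r') = r' * r' * s := by
    intro s hs
    by_cases hse : s * e = e * s
    · exact hab s hs _ hS2 hse hM2
    · have h1 := hab _ (mul_mem hr' hs) _ hS2 (g.out_mul h hr' hs hr'e hse) hM2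
      refine mul_left_cancel (a := r') ?_
      rw [← mul_assoc, h1]
      group
  rcases (hE _).1 (g.central_mem h hE hS2 h4 hcen) with e' | e' | e' | e'
  · exact hne1 e'
  · exact hne e'
  · exact hye (by rw [← e']; exact hcen y hy)
  · refine hye ?_
    have h1 := hcen y hy
    rw [e'] at h1
    refine mul_right_cancel (b := r * r) ?_
    rw [mul_assoc, h1, mul_assoc e (r * r), ← h.zc y hy, ← mul_assoc e]

/-- No element of `S` moves `e`, given the properties of its centralizer. -/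
theorem Good.moved_false (h : Setup A S t r) (g : Good S t r e)
    (hE : ∀ x, x ∈ E ↔ x = 1 ∨ x = r * r ∨ x = e ∨ x = e * (r * r))
    (hnc : ∀ a ∈ A, a * e * a⁻¹ ≠ r * r)
    (hab : ∀ u ∈ S, ∀ v ∈ S, u * e = e * u → v * e = e * v → u * v = v * u)
    (hinv : ∀ u ∈ S, u * e = e * u → u * u = 1 → u ∈ E) {y₀ : G} (hy₀ : y₀ ∈ S)
    (hy₀e : y₀ * e ≠ e * y₀) : False := by
  obtain ⟨y, hy, hye, hyinv⟩ : ∃ y ∈ S, y * e ≠ e * y ∧
      ∀ d ∈ S, d * e ≠ e * d → d * d = 1 → y * y = 1 := by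
    by_cases hd : ∃ d ∈ S, d * e ≠ e * d ∧ d * d = 1
    · obtain ⟨d, hd1, hd2, hd3⟩ := hd
      exact ⟨d, hd1, hd2, fun _ _ _ _ => hd3⟩
    · exact ⟨y₀, hy₀, hy₀e, fun d hd1 hd2 hd3 => absurd ⟨d, hd1, hd2, hd3⟩ hd⟩
  set M := S ⊓ centralizer ({e} : Set G) with hMdef
  have hM : ∀ x, x ∈ M ↔ x ∈ S ∧ x * e = e * x := fun x =>
    ⟨fun hx => ⟨hx.1, mem_centralizer_singleton_iff.1 hx.2⟩,
      fun hx => ⟨hx.1, mem_centralizer_singleton_iff.2 hx.2⟩⟩
  have hc : ∀ u ∈ M, ∀ v ∈ M, u * v = v * u := fun u hu v hv =>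
    hab u ((hM u).1 hu).1 v ((hM v).1 hv).1 ((hM u).1 hu).2 ((hM v).1 hv).2
  have hout : ∀ a ∈ S, ∀ b ∈ S, a ∉ M → b ∉ M → a * b ∈ M := fun a ha b hb haM hbM =>
    (hM _).2 ⟨mul_mem ha hb, g.out_mul h ha hb (fun e' => haM ((hM a).2 ⟨ha, e'⟩))
      fun e' => hbM ((hM b).2 ⟨hb, e'⟩)⟩
  have hyM : y ∉ M := fun hh => hye ((hM y).1 hh).2
  have hyy : y * y ∈ M := hout y hy y hy hyM hyM
  have hconj : ∀ u ∈ M, y * u * y⁻¹ ∈ M := by
    intro u hu
    by_contra hh
    have hyu : y * u ∉ M := fun h' => hyM ((M.mul_mem_cancel_right hu).1 h')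
    exact hh (hout _ (mul_mem hy hu.1) _ (inv_mem hy) hyu fun h' => hyM (inv_mem_iff.1 h'))
  let Inv : Subgroup G :=
    { carrier := {u | u ∈ M ∧ y * u * y⁻¹ = u⁻¹}
      one_mem' := ⟨one_mem M, by group⟩
      mul_mem' := fun {a b} ha hb => ⟨mul_mem ha.1 hb.1, by
        rw [← conj_mul, ha.2, hb.2, hc a ha.1 b hb.1, mul_inv_rev]⟩
      inv_mem' := fun {a} ha => ⟨inv_mem ha.1, by rw [← conj_inv, ha.2]⟩ }
  have hbas : ∀ b ∈ M, y * b * y⁻¹ * b⁻¹ ∈ Inv := by
    intro b hb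
    refine ⟨mul_mem (hconj b hb) (inv_mem hb), ?_⟩
    have h1 : y * y * b * (y * y)⁻¹ = b := by rw [hc _ hyy _ hb, mul_inv_cancel_right]
    rw [← conj_mul, show y * (y * b * y⁻¹) * y⁻¹ = y * y * b * (y * y)⁻¹ by group, h1, mul_inv_rev,
      inv_inv, ← conj_inv]
  have hcomm : ∀ p ∈ S, ∀ q ∈ S, p * q * p⁻¹ * q⁻¹ ∈ Inv := by
    have hrep : ∀ p ∈ S, p ∈ M ∨ ∃ a ∈ M, p = a * y := by
      intro p hp
      by_cases hpM : p ∈ M
      · exact Or.inl hpM
      · exact Or.inr ⟨p * y⁻¹, hout p hp _ (inv_mem hy) hpM fun h' => hyM (inv_mem_iff.1 h'),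
          (inv_mul_cancel_right p y).symm⟩
    have hy' : ∀ b ∈ M, ∀ a ∈ M, a * (y * b * y⁻¹) * a⁻¹ = y * b * y⁻¹ := fun b hb a ha => by
      rw [hc a ha _ (hconj b hb), mul_inv_cancel_right]
    intro p hp q hq
    rcases hrep p hp with hpM | ⟨a, ha, rfl⟩ <;> rcases hrep q hq with hqM | ⟨b, hb, rfl⟩
    · rw [hc p hpM q hqM, show q * p * p⁻¹ * q⁻¹ = 1 by group]; exact one_mem _
    · rw [show p * (b * y) * p⁻¹ * (b * y)⁻¹ = (p * b) * (y * p⁻¹ * y⁻¹) * b⁻¹ by group,
        hc p hpM b hb, show b * p * (y * p⁻¹ * y⁻¹) * b⁻¹ = b * (p * (y * p⁻¹ * y⁻¹)) * b⁻¹ by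
          group,
        hc b hb _ (mul_mem hpM (hconj _ (inv_mem hpM))), mul_inv_cancel_right, ← conj_inv,
        show p * (y * p * y⁻¹)⁻¹ = (y * p * y⁻¹ * p⁻¹)⁻¹ by group]
      exact inv_mem (hbas p hpM)
    · rw [show a * y * q * (a * y)⁻¹ * q⁻¹ = a * (y * q * y⁻¹) * a⁻¹ * q⁻¹ by group, hy' q hqM a ha]
      exact hbas q hqM
    · rw [show a * y * (b * y) * (a * y)⁻¹ * (b * y)⁻¹ =
          a * (y * b * y⁻¹) * (y * a⁻¹ * y⁻¹) * b⁻¹ by group, hc a ha _ (hconj b hb),
        show y * b * y⁻¹ * a * (y * a⁻¹ * y⁻¹) * b⁻¹ =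
          y * b * y⁻¹ * ((a * (y * a⁻¹ * y⁻¹)) * b⁻¹) by group,
        hc _ (mul_mem ha (hconj _ (inv_mem ha))) _ (inv_mem hb), ← mul_assoc, ← conj_inv,
        show a * (y * a * y⁻¹)⁻¹ = (y * a * y⁻¹ * a⁻¹)⁻¹ by group]
      exact mul_mem (hbas b hb) (inv_mem (hbas a ha))
  have hInvN : ∀ p ∈ S, ∀ n ∈ Inv, p * n * p⁻¹ ∈ Inv := fun p hp n hn => by
    have := mul_mem (hcomm p hp n hn.1.1) hn
    rwa [inv_mul_cancel_right] at this
  -- the kernel
  obtain ⟨N, hNI, hNe, hNout, hNS⟩ : ∃ N : Subgroup G, Inv ≤ N ∧ e ∉ N ∧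
      (∀ d ∈ S, d ∉ M → d * d = 1 → d ∈ N) ∧ N ≤ S := by
    have heI : e ∉ Inv := fun hh => by
      have h1 : y * e * y⁻¹ = e := by rw [hh.2, inv_eq_of_mul_eq_one_right g.ee]
      exact hye (mul_inv_eq_iff_eq_mul.1 h1)
    by_cases hy2 : y * y = 1
    · have hyi := inv_eq_of_mul_eq_one_right hy2
      obtain ⟨N, hN⟩ := exists_extend (K := Inv) hy2 fun s hs => by
        have := hInvN y hy s hs
        rwa [hyi] at this
      refine ⟨N, fun x hx => (hN x).2 (Or.inl hx), fun hh => ?_, fun d hd hdM hdd => ?_,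
        fun x hx => ?_⟩
      · rcases (hN e).1 hh with e' | e'
        · exact heI e'
        · exact hyM ((M.mul_mem_cancel_left ((hM e).2 ⟨g.eS, rfl⟩)).1 e'.1)
      · refine (hN d).2 (Or.inr ⟨hout d hd y hy hdM hyM, ?_⟩)
        have hdi := inv_eq_of_mul_eq_one_right hdd
        rw [mul_inv_rev, hdi, hyi, ← mul_assoc, mul_assoc (y * d) y y, hy2, mul_one]
      · rcases (hN x).1 hx with e' | e'
        · exact e'.1.1
        · have := mul_mem e'.1.1 hy
          rwa [mul_assoc, hy2, mul_one] at this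
    · exact ⟨Inv, le_rfl, heI, fun d hd hdM hdd =>
        absurd (hyinv d hd (fun e' => hdM ((hM d).2 ⟨hd, e'⟩)) hdd) hy2, fun x hx => hx.1.1⟩
  refine hNe ((exists_transfer A S N h.SA h.S2 (fun p hp n hn => ?_)
    (fun p hp q hq => hNI (hcomm p hp q hq)) A le_rfl h.perf).1 e (h.SA g.eS)
    ⟨g.eS, g.ee, fun R hR hR2 => ?_, fun a ha had => ?_⟩)
  · have := mul_mem (hNI (hcomm p hp n (hNS hn))) hn
    rwa [inv_mul_cancel_right] at this
  · by_contra hlt
    rw [not_le] at hlt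
    have h2 : 2 * Nat.card M ≤ Nat.card R := by
      obtain ⟨i, hi⟩ := IsPGroup.iff_card.1 hR2
      obtain ⟨j, hj⟩ := IsPGroup.iff_card.1 (h.S2.to_le (inf_le_left : M ≤ S))
      rw [hi, hj] at hlt ⊢
      have hlt' := (Nat.pow_lt_pow_iff_right one_lt_two).1 hlt
      calc 2 * 2 ^ j = 2 ^ (j + 1) := (pow_succ' 2 j).symm
        _ ≤ 2 ^ i := Nat.pow_le_pow_right two_pos hlt'
    have hSM : Nat.card S ≤ 2 * Nat.card M := by
      refine (card_le_two_mul S M hout).trans ?_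
      rw [inf_eq_right.2 (inf_le_left : M ≤ S)]
    have hRA : R ≤ A := hR.trans inf_le_left
    have heR : e ∈ R := by
      have hze : IsPGroup 2 (zpowers e) := h.S2.to_le (zpowers_le.2 g.eS)
      have hnorm : zpowers e ≤ normalizer (R : Set G) := zpowers_le.2
        (mem_normalizer_iff.2 fun v => by
          have hc : ∀ v ∈ R, e * v * e⁻¹ = v := fun v hv => by
            rw [← mem_centralizer_singleton_iff.1 (hR hv).2, mul_inv_cancel_right]
          constructor
          · intro hv; rw [hc v hv]; exact hv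
          · intro hv
            have := hc _ hv
            rwa [mul_left_cancel (mul_right_cancel this)] at hv)
      have heq : R = R ⊔ zpowers e := eq_of_le_of_card_ge le_sup_left
        ((h.sylow _ (sup_le hRA (zpowers_le.2 (h.SA g.eS)))
          (IsPGroup.to_sup_of_normal_left' hR2 hze hnorm)).trans (hSM.trans h2))
      rw [heq]
      exact mem_sup_right (mem_zpowers e)
    obtain ⟨b, hb, hmap⟩ := h.sylow_map_eq hRA hR2 (hSM.trans h2)
    have hbe : b * e * b⁻¹ ∈ S := hmap ▸ ⟨e, heR, rfl⟩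
    have hcen : ∀ s ∈ S, s * (b * e * b⁻¹) = b * e * b⁻¹ * s := by
      intro s hs
      rw [← hmap] at hs
      obtain ⟨x, hx, rfl⟩ := hs
      show b * x * b⁻¹ * (b * e * b⁻¹) = b * e * b⁻¹ * (b * x * b⁻¹)
      rw [conj_mul, mem_centralizer_singleton_iff.1 (hR hx).2, conj_mul]
    rcases (hE _).1 (g.central_mem h hE hbe (by rw [conj_mul, g.ee, mul_one, mul_inv_cancel]) hcen)
      with e' | e' | e' | e'
    · exact g.e1 (conj_eq_one_iff.1 e')
    · exact hnc b hb e'
    · exact hye (by rw [← e']; exact hcen y hy)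
    · have h1 := hcen y hy
      rw [e'] at h1
      refine hye (mul_right_cancel (b := r * r) ?_)
      rw [mul_assoc, h1, mul_assoc e (r * r), ← h.zc y hy, ← mul_assoc e]
  · by_cases hdM : a * e * a⁻¹ ∈ M
    · refine Or.inr (Or.inl ?_)
      rcases (hE _).1 (hinv _ had ((hM _).1 hdM).2 (by
        rw [conj_mul, g.ee, mul_one, mul_inv_cancel])) with e' | e' | e' | e'
      · exact absurd (conj_eq_one_iff.1 e') g.e1
      · exact absurd e' (hnc a ha)
      · exact ⟨1, one_mem S, by rw [e']; group⟩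
      · exact ⟨y, hy, by rw [g.moved_swap h hy fun h1 => hye (mul_inv_eq_iff_eq_mul.1 h1), e']⟩
    · exact Or.inl (hNout _ had hdM (by rw [conj_mul, g.ee, mul_one, mul_inv_cancel]))

end Cfsg.Agent.CycFour
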